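import Groth.Agent.EgaQ.VA.BaseChange
import Groth.Agent.InvUfdLib.Extend
import Groth.Agent.Proj16.RelBasic
import Groth.Agent.QCoh.Qcqs

/-!
# Very ampleness is local on the base
-/

universe u

open CategoryTheory CategoryTheory.Limits AlgebraicGeometry TopologicalSpace Opposite
open Groth.Agent.AModX

set_option backward.isDefEq.respectTransparency false
set_option backward.isDefEq.respectTransparency.types false
set_option linter.all false
set_option maxHeartbeats 1600000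

noncomputable section

namespace Groth.Agent.EgaQ.VA

open Groth.Agent.Eg2Sym Groth.Agent.Eg2Bundle

variable {X Y : Scheme.{u}} {q : X ⟶ Y}

lemma isSeparated_of_isRelVeryAmple {L : X.Modules} (h : RelProj.IsRelVeryAmple q L) : IsSeparated q := by
  obtain ⟨E, hE, 𝒮, j, hj, P, p, chart, hP, O1, lam, hO1, i, himm, hip, -⟩ := h
  have : IsSeparated p := Proj16.isSeparated hP
  rw [← hip]; infer_instance

/-- All sections embed as soon as some family does. -/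
theorem Emb.univ {E : Y.Modules} {L : X.Modules} {σ : E ⟶ (Scheme.Modules.pushforward q).obj L} (hσ : Emb σ) :
    Emb (𝟙 ((Scheme.Modules.pushforward q).obj L)) := by
  refine hσ.transfer fun U hU e x hx => ?_
  let e' : Γ((Scheme.Modules.pushforward q).obj L, U) := σ.app U e
  have hs : ∀ (V : X.Opens) (h : V ≤ q ⁻¹ᵁ U) (y : Γ(E, U)),
      sec q (𝟙 ((Scheme.Modules.pushforward q).obj L)) h (show Γ((Scheme.Modules.pushforward q).obj L, U) from σ.app U y) =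
        sec q σ h y := fun V h y => rfl
  have hle : fLoc (𝟙 ((Scheme.Modules.pushforward q).obj L)) e' ≤ fLoc σ e :=
    le_fLoc σ (fLoc_le _ _) (by rw [← hs]; exact isFrame_fLoc _ e')
  refine ⟨U, hU, e', hle, le_fLoc _ (fLoc_le σ e) (by rw [hs]; exact isFrame_fLoc σ e) hx, fun r => ?_,
    fun y c hc => ?_⟩
  · refine Subring.subset_closure (Or.inl ⟨r, ?_⟩)
    exact (ConcreteCategory.congr_hom (Scheme.Hom.appLE_map q (fLoc_le σ e) (homOfLE hle).op) r).symm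
  · refine coord_mem_coordRing _ e' (show Γ((Scheme.Modules.pushforward q).obj L, U) from σ.app U y) _ ?_
    rw [hs, hs, ← res_sec q σ (fLoc_le σ e) hle y, hc, res_smul, res_sec]

variable {L : X.Modules}

theorem exists_univ_at_of_restrict {W : Y.Opens}
    (h : RelProj.IsRelVeryAmple (q ∣_ W) (L.restrict (q ⁻¹ᵁ W).ι)) (x : X) (hx : x ∈ q ⁻¹ᵁ W) :
    ∃ (U : Y.Opens) (_ : IsAffineOpen U) (e : Γ((Scheme.Modules.pushforward q).obj L, U)),
      x ∈ fLoc (𝟙 ((Scheme.Modules.pushforward q).obj L)) e ∧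
        IsImmersion (coordMap (𝟙 ((Scheme.Modules.pushforward q).obj L)) e) := by
  obtain ⟨E₀, hE₀, σ₀, hσ₀⟩ := exists_emb h
  obtain ⟨U₀, hU₀, e₀, hx₀, himm⟩ := hσ₀ (⟨x, hx⟩ : (q ⁻¹ᵁ W).toScheme)
  set j := (q ⁻¹ᵁ W).ι with hj
  set U := W.ι ''ᵁ U₀ with hUdef
  have hU : IsAffineOpen U := hU₀.image_of_isOpenImmersion W.ι
  have hq : q ⁻¹ᵁ U = j ''ᵁ ((q ∣_ W) ⁻¹ᵁ U₀) := (image_morphismRestrict_preimage q W U₀).symm
  set G₀ := fLoc σ₀ e₀ with hG₀
  have hG₀le : G₀ ≤ (q ∣_ W) ⁻¹ᵁ U₀ := fLoc_le σ₀ e₀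
  let val : Γ(E₀, U₀) → Γ((Scheme.Modules.pushforward q).obj L, U) := fun y =>
    show Γ(L, q ⁻¹ᵁ U) from
      res L hq.le (show Γ(L, j ''ᵁ ((q ∣_ W) ⁻¹ᵁ U₀)) from σ₀.app U₀ y)
  set σ := 𝟙 ((Scheme.Modules.pushforward q).obj L)
  have hs : ∀ (V₀ : (q ⁻¹ᵁ W).toScheme.Opens) (h₀ : V₀ ≤ (q ∣_ W) ⁻¹ᵁ U₀) (hV : j ''ᵁ V₀ ≤ q ⁻¹ᵁ U) (y : Γ(E₀, U₀)),
      sec q σ hV (val y) = (show Γ(L, j ''ᵁ V₀) from sec (q ∣_ W) σ₀ h₀ y) := fun V₀ h₀ hV y =>
    res_res (M := L) hq.le hV (show Γ(L, j ''ᵁ ((q ∣_ W) ⁻¹ᵁ U₀)) from σ₀.app U₀ y)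
  have hGle : j ''ᵁ G₀ ≤ q ⁻¹ᵁ U := (j.image_mono hG₀le).trans hq.ge
  set G := fLoc σ (val e₀) with hG
  have h1 : j ''ᵁ G₀ ≤ G := le_fLoc σ hGle (by
    rw [hs G₀ hG₀le]
    exact InvUfdLib.isFrame_of_restrict j (isFrame_fLoc σ₀ e₀))
  have h2 : G ≤ j ''ᵁ G₀ := by
    have hGU : G ≤ j ''ᵁ ((q ∣_ W) ⁻¹ᵁ U₀) := (fLoc_le σ (val e₀)).trans hq.le
    have hGj : j ''ᵁ (j ⁻¹ᵁ G) = G := by
      rw [Scheme.Hom.image_preimage_eq_opensRange_inf]
      exact inf_eq_right.2 (hGU.trans (j.image_le_opensRange _))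
    have h₀ : j ⁻¹ᵁ G ≤ (q ∣_ W) ⁻¹ᵁ U₀ := (j.preimage_mono hGU).trans (j.preimage_image_eq _).le
    have hfr : InvX.IsFrame (M := L.restrict j) (U := j ⁻¹ᵁ G) (sec (q ∣_ W) σ₀ h₀ e₀) := by
      have h3 := (isFrame_fLoc σ (val e₀)).res hGj.le
      rw [res_sec, hs (j ⁻¹ᵁ G) h₀] at h3
      exact InvUfdLib.isFrame_restrict j h3
    calc G = j ''ᵁ (j ⁻¹ᵁ G) := hGj.symm
      _ ≤ j ''ᵁ G₀ := j.image_mono (le_fLoc σ₀ h₀ hfr)
  refine ⟨U, hU, val e₀, h1 ⟨⟨x, hx⟩, hx₀, rfl⟩, ?_⟩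
  let R₀ := coordRing σ₀ e₀
  let κ : CommRingCat.of R₀ ⟶ Γ(X, j ''ᵁ G₀) := CommRingCat.ofHom R₀.subtype ≫ (j.appIso G₀).inv
  have hκ : IsImmersion ((j ''ᵁ G₀).toSpecΓ ≫ Spec.map κ) := by
    have hle : G₀ ≤ j ⁻¹ᵁ (j ''ᵁ G₀) := (j.preimage_image_eq _).ge
    have hres : j.resLE (j ''ᵁ G₀) G₀ hle = (j.isoImage G₀).hom := by
      rw [← cancel_mono (j ''ᵁ G₀).ι, Scheme.Hom.resLE_comp_ι, Scheme.Hom.isoImage_hom_ι]
    have : IsImmersion ((j.isoImage G₀).hom ≫ (j ''ᵁ G₀).toSpecΓ ≫ Spec.map κ) := by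
      rw [← hres, ← Scheme.Opens.toSpecΓ_SpecMap_appLE_assoc, ← Spec.map_comp,
        show κ ≫ j.appLE (j ''ᵁ G₀) G₀ hle = CommRingCat.ofHom R₀.subtype by
          rw [show j.appLE (j ''ᵁ G₀) G₀ hle = (j.appIso G₀).hom from (j.appIso_hom' G₀).symm]
          simp [κ]]
      exact himm
    rwa [MorphismProperty.cancel_left_of_respectsIso @IsImmersion] at this
  refine isImmersion_of_subring_le h2 κ _ (fun a => ?_) hκ
  obtain ⟨a, ha⟩ := a
  show resR h2 ((j.appIso G₀).inv.hom a) ∈ coordRing σ (val e₀)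
  induction ha using Subring.closure_induction with
  | mem a ha =>
    rcases ha with ⟨r, rfl⟩ | ⟨y, hy⟩
    · refine Subring.subset_closure (Or.inl ⟨(W.ι.appIso U₀).inv.hom r, ?_⟩)
      have hle : G₀ ≤ j ⁻¹ᵁ (j ''ᵁ G₀) := (j.preimage_image_eq _).ge
      have key : q.appLE U (j ''ᵁ G₀) hGle ≫ j.appLE (j ''ᵁ G₀) G₀ hle =
          W.ι.appLE U U₀ (W.ι.preimage_image_eq U₀).ge ≫ (q ∣_ W).appLE U₀ G₀ hG₀le := by
        rw [Scheme.Hom.appLE_comp_appLE, Scheme.Hom.appLE_comp_appLE]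
        simp only [morphismRestrict_ι, j]
      have key' := ConcreteCategory.congr_hom key ((W.ι.appIso U₀).inv.hom r)
      simp only [CommRingCat.comp_apply] at key'
      rw [show W.ι.appLE U U₀ (W.ι.preimage_image_eq U₀).ge = (W.ι.appIso U₀).hom from (W.ι.appIso_hom' U₀).symm,
        show j.appLE (j ''ᵁ G₀) G₀ hle = (j.appIso G₀).hom from (j.appIso_hom' G₀).symm] at key'
      have key'' := congrArg (fun t => resR h2 ((j.appIso G₀).inv.hom t)) key'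
      simp only [Iso.inv_hom_id_apply, Iso.hom_inv_id_apply] at key''
      rw [show (W.ι.appIso U₀).hom ((W.ι.appIso U₀).inv.hom r) = r from
        (W.ι.appIso U₀).inv_hom_id_apply r] at key''
      refine Eq.trans ?_ key''
      exact (ConcreteCategory.congr_hom (Scheme.Hom.appLE_map q hGle (homOfLE h2).op) _).symm
    · refine coord_mem_coordRing σ _ (val y) _ ?_
      rw [← res_sec q σ hGle h2 (val y), ← res_sec q σ hGle h2 (val e₀), hs G₀ hG₀le hGle y, hs G₀ hG₀le hGle e₀]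
      rw [← res_smul]
      exact congrArg (fun t => res L h2 t) (hy.trans (InvUfdLib.restrict_smul_def j a _))
  | zero => rw [map_zero, map_zero]; exact zero_mem _
  | one => rw [map_one, map_one]; exact one_mem _
  | add a b _ _ ha hb => rw [map_add, map_add]; exact add_mem ha hb
  | neg a _ ha => rw [map_neg, map_neg]; exact neg_mem ha
  | mul a b _ _ ha hb => rw [map_mul, map_mul]; exact mul_mem ha hb

theorem isRelVeryAmple_iff_of_openCover [QuasiCompact q] (hL : PicF.IsInvertible L) {ι : Type u} (U : ι → Y.Opens)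
    (hU : ⨆ i, U i = ⊤) :
    RelProj.IsRelVeryAmple q L ↔ ∀ i, RelProj.IsRelVeryAmple (q ∣_ (U i)) (L.restrict (q ⁻¹ᵁ (U i)).ι) := by
  constructor
  · intro h i
    have h1 := isRelVeryAmple_baseChange (isPullback_morphismRestrict q (U i)).flip hL h
    obtain ⟨E, hE, 𝒮, j, hj, P, p, chart, hP, O1, lam, hO1, i', himm, hip, ⟨eL⟩⟩ := h1
    exact ⟨E, hE, 𝒮, j, hj, P, p, chart, hP, O1, lam, hO1, i', himm, hip,
      ⟨(Scheme.Modules.restrictFunctorIsoPullback _).app L ≪≫ eL⟩⟩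
  · intro h
    have : IsSeparated q := IsZariskiLocalAtTarget.of_iSup_eq_top (P := @IsSeparated) U hU fun i =>
      isSeparated_of_isRelVeryAmple (h i)
    refine Emb.isRelVeryAmple (σ := 𝟙 ((Scheme.Modules.pushforward q).obj L))
      (QCoh.isQCoh_pushforward q (ProjUPX.isQCoh_of_isInvertible hL)) fun x => ?_
    obtain ⟨i, hi⟩ := Opens.mem_iSup.mp (hU.ge (Set.mem_univ (q x)))
    exact exists_univ_at_of_restrict (h i) x hi

end Groth.Agent.EgaQ.VA
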