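import Groth.Agent.EgaQ.VA.Comp

/-!
# Base change of very ampleness
-/

universe u

open CategoryTheory CategoryTheory.Limits AlgebraicGeometry TopologicalSpace Opposite
open Groth.Agent.AModX

set_option backward.isDefEq.respectTransparency false
set_option backward.isDefEq.respectTransparency.types false
set_option linter.all false
set_option maxHeartbeats 1600000

noncomputable section

namespace Groth.Agent.EgaQ.VA

open Groth.Agent.Eg2Sym Groth.Agent.Eg2Bundle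

variable {X Y X' Y' : Scheme.{u}} {f : X ⟶ Y} {g : Y' ⟶ Y} {g' : X' ⟶ X} {f' : X' ⟶ Y'}
  {E : Y.Modules} {L : X.Modules}

/-- The pulled back sections, relative to the composite. -/
def bcPre (hw : g' ≫ f = f' ≫ g) (σ : E ⟶ (Scheme.Modules.pushforward f).obj L) :
    E ⟶ (Scheme.Modules.pushforward (f' ≫ g)).obj ((Scheme.Modules.pullback g').obj L) :=
  σ ≫ (Scheme.Modules.pushforward f).map ((Scheme.Modules.pullbackPushforwardAdjunction g').unit.app L) ≫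
    (Scheme.Modules.pushforwardComp g' f).hom.app ((Scheme.Modules.pullback g').obj L) ≫
      (Scheme.Modules.pushforwardCongr hw).hom.app ((Scheme.Modules.pullback g').obj L)

lemma sec_bcPre (hw : g' ≫ f = f' ≫ g) (σ : E ⟶ (Scheme.Modules.pushforward f).obj L) {U : Y.Opens}
    {V : X'.Opens} (h : V ≤ (f' ≫ g) ⁻¹ᵁ U) (h' : V ≤ g' ⁻¹ᵁ (f ⁻¹ᵁ U)) (x : Γ(E, U)) :
    sec (f' ≫ g) (bcPre hw σ) h x =
      res _ h' (InvX.pullElt g' (show Γ(L, f ⁻¹ᵁ U) from σ.app U x)) := by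
  rw [sec]
  exact res_res (M := (Scheme.Modules.pullback g').obj L) (by rw [← hw]) h _

/-- A section whose inverse image is a frame near a point is a frame near the image. -/
lemma frame_of_pullElt (hL : PicF.IsInvertible L) {U : X.Opens} (s : Γ(L, U)) {W : X'.Opens}
    (h : W ≤ g' ⁻¹ᵁ U) (hs : InvX.IsFrame (res ((Scheme.Modules.pullback g').obj L) h (InvX.pullElt g' s)))
    (x' : X') (hx : x' ∈ W) :
    ∃ (V : X.Opens) (hV : V ≤ U), g' x' ∈ V ∧ InvX.IsFrame (res L hV s) := by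
  obtain ⟨W₀, hW₀, ℓ, hℓ⟩ := InvX.exists_frame hL (g' x')
  set V₀ := U ⊓ W₀
  have hxV₀ : g' x' ∈ V₀ := ⟨h hx, hW₀⟩
  have hm := hℓ.res (inf_le_right : V₀ ≤ W₀)
  set m := res L (inf_le_right : V₀ ≤ W₀) ℓ
  obtain ⟨α, hα⟩ := hm.exists_coord le_rfl (res L (inf_le_left : V₀ ≤ U) s)
  rw [res_self] at hα
  set W' := W ⊓ g' ⁻¹ᵁ V₀
  have hW' : W' ≤ g' ⁻¹ᵁ V₀ := inf_le_right
  set β : Γ(X', W') := (g'.appLE V₀ W' hW').hom α
  have hpm : InvX.IsFrame (res ((Scheme.Modules.pullback g').obj L) hW' (InvX.pullElt g' m)) :=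
    (InvX.isFrame_pullElt g' hm).res hW'
  have heq : res ((Scheme.Modules.pullback g').obj L) ((inf_le_left : W' ≤ W).trans h) (InvX.pullElt g' s) =
      β • res ((Scheme.Modules.pullback g').obj L) hW' (InvX.pullElt g' m) := by
    have := congrArg (fun t => res ((Scheme.Modules.pullback g').obj L) hW' (InvX.pullElt g' t)) hα
    simp only [InvX.pullElt_smul, res_smul] at this
    rw [← InvX.res_pullElt, res_res] at this
    exact this
  have hf' := hs.res (inf_le_left : W' ≤ W)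
  rw [res_res, heq] at hf'
  obtain ⟨c, hc⟩ := hf'.exists_coord le_rfl (res ((Scheme.Modules.pullback g').obj L) hW' (InvX.pullElt g' m))
  rw [res_self, ← mul_smul] at hc
  have hu : IsUnit β := IsUnit.of_mul_eq_one c (hpm.coord_unique le_rfl (by
    rw [res_self, one_smul, mul_comm]; exact hc.symm))
  refine ⟨X.basicOpen α, (X.basicOpen_le α).trans inf_le_left, ?_, ?_⟩
  · have h2 : x' ∈ X'.basicOpen β := (X'.mem_basicOpen β x' ⟨hx, hxV₀⟩).2 (hu.map _)
    rw [show β = resR hW' (g'.app V₀ α) from rfl, resR, Scheme.basicOpen_res, ← g'.preimage_basicOpen] at h2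
    exact h2.2
  · have h3 := hα
    have h4 := congrArg (res L (X.basicOpen_le α)) h3
    rw [res_res, res_smul] at h4
    rw [h4]
    exact (hm.res _).isUnit_smul (isUnit_resR _ _ le_rfl)

theorem Emb.baseChange (hsq : IsPullback g' f' f g) (hL : PicF.IsInvertible L)
    {σ : E ⟶ (Scheme.Modules.pushforward f).obj L} (hσ : Emb σ) : Emb (VA.midMap (bcPre hsq.w σ)) := fun x' => by
  obtain ⟨U, hU, e, hx, himm⟩ := hσ (g' x')
  have hxU : g (f' x') ∈ U := by
    rw [← Scheme.Hom.comp_apply, ← hsq.w, Scheme.Hom.comp_apply]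
    exact fLoc_le σ e hx
  obtain ⟨U', hU', hxU', hle'⟩ := exists_isAffineOpen_mem_and_subset (U := g ⁻¹ᵁ U) (x := f' x') hxU
  have hU'U : U' ≤ g ⁻¹ᵁ U := hle'
  set σ' := VA.midMap (bcPre hsq.w σ) with hσ'
  let e' : Γ((Scheme.Modules.pullback g).obj E, U') := res _ hU'U (InvX.pullElt g e)
  set G := fLoc σ e with hG
  set G' := fLoc σ' e' with hG'
  have hGU' : G' ≤ f' ⁻¹ᵁ U' := fLoc_le _ _
  have hcomm : ∀ W : Y.Opens, f' ⁻¹ᵁ g ⁻¹ᵁ W = g' ⁻¹ᵁ f ⁻¹ᵁ W := fun W => by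
    rw [← Scheme.Hom.comp_preimage, ← Scheme.Hom.comp_preimage, hsq.w]
  have hsec : ∀ {V : X'.Opens} (h : V ≤ f' ⁻¹ᵁ U') (y : Γ(E, U)),
      sec f' σ' h (res _ hU'U (InvX.pullElt g y)) =
        res _ ((h.trans (f'.preimage_mono hU'U)).trans (hcomm U).le)
          (InvX.pullElt g' (show Γ(L, f ⁻¹ᵁ U) from σ.app U y)) := fun h y => by
    rw [hσ', sec_midMap]
    exact sec_bcPre _ _ _ _ y
  have hsecG : ∀ {V : X'.Opens} (h : V ≤ f' ⁻¹ᵁ U') (hV : V ≤ g' ⁻¹ᵁ G) (y : Γ(E, U)),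
      sec f' σ' h (res _ hU'U (InvX.pullElt g y)) =
        res _ hV (InvX.pullElt g' (sec f σ (fLoc_le σ e) y)) := fun h hV y => by
    rw [hsec h, sec, ← InvX.res_pullElt, res_res]
  have hGG : G' ≤ g' ⁻¹ᵁ G := fun z hz => by
    have h1 := isFrame_fLoc σ' e'
    rw [hsec] at h1
    obtain ⟨V, hV, hzV, hfr⟩ := frame_of_pullElt hL _ _ h1 z hz
    exact le_fLoc σ hV hfr hzV
  have hxG' : x' ∈ G' := by
    refine le_fLoc σ' (inf_le_right : g' ⁻¹ᵁ G ⊓ f' ⁻¹ᵁ U' ≤ f' ⁻¹ᵁ U') ?_ ⟨hx, hxU'⟩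
    rw [hsecG _ inf_le_left]
    exact (InvX.isFrame_pullElt g' (isFrame_fLoc σ e)).res _
  refine ⟨U', hU', e', hxG', ?_⟩
  let R := coordRing σ e
  let R' := coordRing σ' e'
  let φR : Γ(Y, U) ⟶ CommRingCat.of R :=
    CommRingCat.ofHom ((f.appLE U G (fLoc_le σ e)).hom.codRestrict R (appLE_mem_coordRing σ e))
  let θ₂ : Γ(Y', U') ⟶ CommRingCat.of R' :=
    CommRingCat.ofHom ((f'.appLE U' G' hGU').hom.codRestrict R' (appLE_mem_coordRing σ' e'))
  have hθ : ∀ a ∈ R, (g'.appLE G G' hGG).hom a ∈ R' := by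
    intro a ha
    induction ha using Subring.closure_induction with
    | mem a ha =>
      rcases ha with ⟨r, rfl⟩ | ⟨y, hy⟩
      · refine Subring.subset_closure (Or.inl ⟨(g.appLE U U' hU'U).hom r, ?_⟩)
        show (g.appLE U U' hU'U ≫ f'.appLE U' G' hGU').hom r = (f.appLE U G (fLoc_le σ e) ≫ g'.appLE G G' hGG).hom r
        rw [Scheme.Hom.appLE_comp_appLE, Scheme.Hom.appLE_comp_appLE]
        simp only [hsq.w]
      · refine coord_mem_coordRing σ' e' (res _ hU'U (InvX.pullElt g y)) _ ?_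
        rw [hsecG hGU' hGG, hsecG hGU' hGG, hy, InvX.pullElt_smul, res_smul]
        rfl
    | zero => rw [map_zero]; exact zero_mem _
    | one => rw [map_one]; exact one_mem _
    | add a b _ _ ha hb => rw [map_add]; exact add_mem ha hb
    | neg a _ ha => rw [map_neg]; exact neg_mem ha
    | mul a b _ _ ha hb => rw [map_mul]; exact mul_mem ha hb
  let θ₁ : CommRingCat.of R ⟶ CommRingCat.of R' :=
    CommRingCat.ofHom (((g'.appLE G G' hGG).hom.comp R.subtype).codRestrict R' fun a => hθ a.1 a.2)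
  let i : CommRingCat.of R ⟶ Γ(X, G) := CommRingCat.ofHom R.subtype
  let i' : CommRingCat.of R' ⟶ Γ(X', G') := CommRingCat.ofHom R'.subtype
  let a : Spec (CommRingCat.of R) ⟶ Y := Spec.map φR ≫ hU.fromSpec
  let b : Spec Γ(Y', U') ⟶ Y := hU'.fromSpec ≫ g
  let γ : G.toScheme ⟶ Spec (CommRingCat.of R) := coordMap σ e
  have hγ : G.ι ≫ f = γ ≫ a := by
    show G.ι ≫ f = (G.toSpecΓ ≫ Spec.map i) ≫ Spec.map φR ≫ hU.fromSpec
    rw [Category.assoc, ← Spec.map_comp_assoc, show φR ≫ i = f.appLE U G (fLoc_le σ e) from rfl,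
      Scheme.Opens.toSpecΓ_SpecMap_appLE_assoc, hU.toSpecΓ_fromSpec, Scheme.Hom.resLE_comp_ι]
  let q₂ : G'.toScheme ⟶ Spec Γ(Y', U') := G'.toSpecΓ ≫ Spec.map (f'.appLE U' G' hGU')
  have hq₂ : q₂ ≫ hU'.fromSpec = G'.ι ≫ f' := by
    rw [Category.assoc, Scheme.Opens.toSpecΓ_SpecMap_appLE_assoc, hU'.toSpecΓ_fromSpec, Scheme.Hom.resLE_comp_ι]
  let ℓ₀ : G'.toScheme ⟶ pullback (G.ι ≫ f) b := pullback.lift (g'.resLE G G' hGG) q₂ (by
    rw [Scheme.Hom.resLE_comp_ι_assoc, hsq.w, show q₂ ≫ b = (q₂ ≫ hU'.fromSpec) ≫ g from (Category.assoc _ _ _).symm,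
      hq₂, Category.assoc])
  have hℓ₀ : IsOpenImmersion ℓ₀ := by
    let m₀ := pullback.map (G.ι ≫ f) b f g G.ι hU'.fromSpec (𝟙 Y) (by simp) (by simp [b])
    have e1 : ℓ₀ ≫ m₀ = G'.ι ≫ hsq.isoPullback.hom := by
      apply pullback.hom_ext
      · simp [ℓ₀, m₀, Scheme.Hom.resLE_comp_ι]
      · simp [ℓ₀, m₀, hq₂]
    have : IsOpenImmersion (ℓ₀ ≫ m₀) := by rw [e1]; infer_instance
    exact IsOpenImmersion.of_comp _ m₀
  let m := pullback.map (G.ι ≫ f) b a b γ (𝟙 _) (𝟙 Y) (by simpa using hγ) (by simp)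
  have hm : IsImmersion m :=
    MorphismProperty.pullbackMap (P := @IsImmersion.{u}) (i₁ := γ) (i₂ := 𝟙 _) himm inferInstance hγ (by simp)
  have hlift : Spec.map θ₁ ≫ a = Spec.map θ₂ ≫ b := by
    show Spec.map θ₁ ≫ Spec.map φR ≫ hU.fromSpec = Spec.map θ₂ ≫ hU'.fromSpec ≫ g
    rw [← IsAffineOpen.SpecMap_appLE_fromSpec g hU hU' hU'U, ← Spec.map_comp_assoc, ← Spec.map_comp_assoc]
    congr 2
    refine CommRingCat.hom_ext (RingHom.ext fun r => Subtype.ext ?_)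
    show (f.appLE U G (fLoc_le σ e) ≫ g'.appLE G G' hGG).hom r = (g.appLE U U' hU'U ≫ f'.appLE U' G' hGU').hom r
    rw [Scheme.Hom.appLE_comp_appLE, Scheme.Hom.appLE_comp_appLE]
    simp only [hsq.w]
  let l := pullback.lift (Spec.map θ₁) (Spec.map θ₂) hlift
  have efin : coordMap σ' e' ≫ l = ℓ₀ ≫ m := by
    apply pullback.hom_ext
    · show ((G'.toSpecΓ ≫ Spec.map i') ≫ l) ≫ _ = _
      simp only [l, m, ℓ₀, Category.assoc, pullback.lift_fst, pullback.lift_fst_assoc]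
      show G'.toSpecΓ ≫ Spec.map i' ≫ Spec.map θ₁ = g'.resLE G G' hGG ≫ G.toSpecΓ ≫ Spec.map i
      rw [← Spec.map_comp, ← Scheme.Opens.toSpecΓ_SpecMap_appLE_assoc, ← Spec.map_comp]
      rfl
    · show ((G'.toSpecΓ ≫ Spec.map i') ≫ l) ≫ _ = _
      simp only [l, m, ℓ₀, Category.assoc, pullback.lift_snd, pullback.lift_snd_assoc, Category.comp_id]
      show G'.toSpecΓ ≫ Spec.map i' ≫ Spec.map θ₂ = G'.toSpecΓ ≫ Spec.map _
      rw [← Spec.map_comp]
      rfl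
  have : IsImmersion (coordMap σ' e' ≫ l) := by rw [efin]; infer_instance
  exact IsImmersion.of_comp _ l

theorem isRelVeryAmple_baseChange (hsq : IsPullback g' f' f g) (hL : PicF.IsInvertible L)
    (h : RelProj.IsRelVeryAmple f L) :
    RelProj.IsRelVeryAmple f' ((Scheme.Modules.pullback g').obj L) := by
  obtain ⟨E, hE, σ, hσ⟩ := exists_emb h
  exact (hσ.baseChange hsq hL).isRelVeryAmple (QCoh.isQCoh_pullback g hE)

end Groth.Agent.EgaQ.VA
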