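import Groth.Agent.Eg2Bundle.UP
import Groth.Agent.Eg2Rel.GenFrame
import Groth.Agent.EgaQ.TwistExist
import Groth.Agent.Proj16.RelExist

/-!
# Projective bundles with their fundamental maps exist
-/

universe u

open CategoryTheory CategoryTheory.Limits AlgebraicGeometry TopologicalSpace Opposite HomogeneousLocalization
open Groth.Agent.AModX
open scoped HomogeneousIdeal

set_option backward.isDefEq.respectTransparency false
set_option backward.isDefEq.respectTransparency.types false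
set_option linter.all false

noncomputable section

namespace Groth.Agent.EgaQ.VA

open Groth.Agent.Eg2Sym Groth.Agent.Eg2Bundle

variable {Y : Scheme.{u}}

/-- A projective bundle of a module with its fundamental sheaf and fundamental map. -/
structure Bun (E : Y.Modules) where
  qcoh : Coh.IsQCoh E
  sym : RelProj.QCGrAlg Y
  j : E ⟶ sym.toModule
  isSym : RelProj.IsGrSymAlg E sym j
  P : Scheme.{u}
  p : P ⟶ Y
  chart : ∀ (U : Y.Opens) (hU : IsAffineOpen U), ((p ⁻¹ᵁ U : P.Opens) : Scheme.{u}) ≅ Proj (sym.deg U hU)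
  isProj : RelProj.IsRelProj sym p chart
  O1 : P.Modules
  lam : ∀ (U : Y.Opens) (hU : IsAffineOpen U),
    O1 ⟶ (Scheme.Modules.pushforward (RelProj.emb p chart U hU)).obj (GrTwist.twist (sym.deg U hU) 1)
  isTwist : RelProj.IsRelTwist sym p chart 1 O1 lam
  phi : E ⟶ (Scheme.Modules.pushforward p).obj O1
  phi_val : ∀ (U : Y.Opens) (hU : IsAffineOpen U) (e : Γ(E, U))
    (y : ↥(RelProj.emb p chart U hU ⁻¹ᵁ (p ⁻¹ᵁ U))),
    GrTwist.val (V := RelProj.emb p chart U hU ⁻¹ᵁ (p ⁻¹ᵁ U))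
        ((lam U hU).app (p ⁻¹ᵁ U) ((phi.app U) e)) y =
      algebraMap (sym.presheaf.obj (op U)) (GrTwist.Loc (sym.deg U hU) y.1)
        ((j.app U) e : sym.presheaf.obj (op U))

section phi

variable {E : Y.Modules} {𝒮 : RelProj.QCGrAlg Y} {j : E ⟶ 𝒮.toModule}
  {P : Scheme.{u}} {p : P ⟶ Y}
  {chart : ∀ (U : Y.Opens) (hU : IsAffineOpen U), ((p ⁻¹ᵁ U : P.Opens) : Scheme.{u}) ≅ Proj (𝒮.deg U hU)}
  {O1 : P.Modules}
  {lam : ∀ (U : Y.Opens) (hU : IsAffineOpen U),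
    O1 ⟶ (Scheme.Modules.pushforward (RelProj.emb p chart U hU)).obj (GrTwist.twist (𝒮.deg U hU) 1)}

/-- The function `ev` of the structure map. -/
lemma ev_struct (hE : Coh.IsQCoh E) (hj : RelProj.IsGrSymAlg E 𝒮 j) (hP : RelProj.IsRelProj 𝒮 p chart)
    {U : Y.Opens} (hU : IsAffineOpen U) (r : Γ(Y, U)) (y : ProjectiveSpectrum (𝒮.deg U hU))
    (hy : (RelProj.emb p chart U hU).base y ∈ p ⁻¹ᵁ U) :
    Eg2Rel.ev chart hU (p ⁻¹ᵁ U) y hy (p.app U r) =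
      algebraMap (𝒮.presheaf.obj (op U)) (GrTwist.Loc (𝒮.deg U hU) y) ((𝒮.str.app (op U)).hom r) := by
  obtain ⟨e, he⟩ := exists_mem_genOpen (chart := chart) hE hj hU _ hy
  set G := genOpen j chart hU e
  have hG : G ≤ p ⁻¹ᵁ U := genOpen_le hU e
  have h : theta chart hU e (cst hj hU e r) = (p.appLE U G hG).hom r := by
    refine cst_of_proj hj hP hU e (g := p) hG (theta chart hU e) ?_ r
    rw [chartMap, toSpecΓ_theta]
  refine (Eg2Rel.ev_res hU hG (p.app U r) y he).symm.trans ?_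
  rw [show resR hG (p.app U r) = theta chart hU e (cst hj hU e r) from h.symm]
  have hy' : y ∈ Proj.basicOpen (𝒮.deg U hU) (jApp (A := 𝒮.toQCAlg) j U e) := Eg2Rel.mem_of_emb_mem hU _ he
  have e2 : (RelProj.emb p chart U hU).app G (theta chart hU e (cst hj hU e r)) =
      (Proj (𝒮.deg U hU)).presheaf.map
        (eqToHom ((RelProj.emb p chart U hU).preimage_image_eq (Proj.basicOpen (𝒮.deg U hU) _))).op
        (Proj.awayToSection (𝒮.deg U hU) _ (cst hj hU e r)) :=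
    congr($((RelProj.emb p chart U hU).appIso_inv_app (Proj.basicOpen (𝒮.deg U hU) _))
      (Proj.awayToSection (𝒮.deg U hU) _ (cst hj hU e r)))
  show (((RelProj.emb p chart U hU).app G _).1 ⟨y, he⟩).val = _
  rw [e2]
  show ((Proj.awayToSection (𝒮.deg U hU) _ (cst hj hU e r)).1 ⟨y, hy'⟩).val = _
  refine (ProjectiveSpectrum.Proj.awayToSection_apply (𝒮.deg U hU) _ (cst hj hU e r) ⟨y, hy'⟩).trans ?_
  rw [cst, Away.val_mk, Localization.mk_eq_mk', IsLocalization.map_mk', ← Localization.mk_eq_mk',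
    ← Localization.mk_one_eq_algebraMap]
  exact Localization.mk_eq_mk_iff.mpr (Localization.r_of_eq (by simp))

/-- An element of degree one as a section of the twist. -/
def degOneSect {U : Y.Opens} {hU : IsAffineOpen U} {a : 𝒮.presheaf.obj (op U)} (ha : a ∈ 𝒮.deg U hU 1)
    (V : (Proj (𝒮.deg U hU)).Opens) : Γ(GrTwist.twist (𝒮.deg U hU) 1, V) :=
  ⟨fun y => ⟨algebraMap _ _ a, Submodule.subset_span ⟨1, 0, ⟨a, ha⟩, ⟨1, SetLike.GradedOne.one_mem⟩,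
      fun h => y.1.isPrime.ne_top ((Ideal.eq_top_iff_one _).mpr h), by simp,
      (Localization.mk_one_eq_algebraMap a).symm⟩⟩,
    fun y => ⟨V, y.2, 𝟙 _, 1, 0, ⟨a, ha⟩, ⟨1, SetLike.GradedOne.one_mem⟩,
      fun z h => z.1.isPrime.ne_top ((Ideal.eq_top_iff_one _).mpr h), Or.inl (by simp),
      fun z => (Localization.mk_one_eq_algebraMap a).symm⟩⟩

theorem exists_phi (hE : Coh.IsQCoh E) (hj : RelProj.IsGrSymAlg E 𝒮 j) (hP : RelProj.IsRelProj 𝒮 p chart)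
    (hO1 : RelProj.IsRelTwist 𝒮 p chart 1 O1 lam) :
    ∃ φ : E ⟶ (Scheme.Modules.pushforward p).obj O1, ∀ (U : Y.Opens) (hU : IsAffineOpen U) (e : Γ(E, U))
      (y : ↥(RelProj.emb p chart U hU ⁻¹ᵁ (p ⁻¹ᵁ U))),
      GrTwist.val (V := RelProj.emb p chart U hU ⁻¹ᵁ (p ⁻¹ᵁ U))
          ((lam U hU).app (p ⁻¹ᵁ U) ((φ.app U) e)) y =
        algebraMap (𝒮.presheaf.obj (op U)) (GrTwist.Loc (𝒮.deg U hU) y.1)
          ((j.app U) e : 𝒮.presheaf.obj (op U)) := by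
  have hex : ∀ (U : Y.affineOpens) (x : Γ(E, U.1)), ∃ t : Γ(O1, p ⁻¹ᵁ U.1),
      ∀ (y : ProjectiveSpectrum (𝒮.deg U.1 U.2)) (hy : (RelProj.emb p chart U.1 U.2).base y ∈ p ⁻¹ᵁ U.1),
        GrTwist.val (V := RelProj.emb p chart U.1 U.2 ⁻¹ᵁ (p ⁻¹ᵁ U.1)) ((lam U.1 U.2).app _ t) ⟨y, hy⟩ =
          algebraMap (𝒮.presheaf.obj (op U.1)) (GrTwist.Loc (𝒮.deg U.1 U.2) y) (jApp (A := 𝒮.toQCAlg) j U.1 x) := by
    intro U x
    obtain ⟨t, ht⟩ := (hO1.bijective U.1 U.2 _ le_rfl).2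
      (show Γ((Scheme.Modules.pushforward (RelProj.emb p chart U.1 U.2)).obj (GrTwist.twist (𝒮.deg U.1 U.2) 1), p ⁻¹ᵁ U.1) from
        degOneSect (jApp_mem_one hj U.2 x) _)
    exact ⟨t, fun y hy => by rw [ht]; rfl⟩
  choose F hF using hex
  have hext : ∀ (U : Y.affineOpens) {W : P.Opens} (hW : W ≤ p ⁻¹ᵁ U.1) (a b : Γ(O1, W)),
      (∀ (y : ProjectiveSpectrum (𝒮.deg U.1 U.2)) (hy : (RelProj.emb p chart U.1 U.2).base y ∈ W),
        GrTwist.val (V := RelProj.emb p chart U.1 U.2 ⁻¹ᵁ W) ((lam U.1 U.2).app _ a) ⟨y, hy⟩ =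
          GrTwist.val (V := RelProj.emb p chart U.1 U.2 ⁻¹ᵁ W) ((lam U.1 U.2).app _ b) ⟨y, hy⟩) → a = b :=
    fun U W hW a b h => (hO1.bijective U.1 U.2 W hW).1 (Subtype.ext (funext fun y => Subtype.ext (h y.1 y.2)))
  let φ : ∀ U : Y.affineOpens, Γ(E, U.1) →ₗ[Γ(Y, U.1)] Γ((Scheme.Modules.pushforward p).obj O1, U.1) := fun U =>
    { toFun := fun x => F U x
      map_add' := fun x x' => hext U le_rfl _ (F U x + F U x' : Γ(O1, p ⁻¹ᵁ U.1)) fun y hy => by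
        rw [hF, map_add, map_add, map_add, ← hF U x y hy, ← hF U x' y hy]
        rfl
      map_smul' := fun r x => hext U le_rfl _ (p.app U.1 r • F U x : Γ(O1, p ⁻¹ᵁ U.1)) fun y hy => by
        rw [hF, Eg2Rel.val_smul, hF, ev_struct hE hj hP, jApp_smul, map_mul] }
  have hbasic : ∀ (U D : Y.affineOpens) (i : D.1 ≤ U.1) (hb : ∃ r : Γ(Y, U.1), Y.basicOpen r = D.1) (x : Γ(E, U.1)),
      res O1 (p.preimage_mono i) (F U x) = F D (res E i x) := by
    rintro U ⟨D, hD⟩ i ⟨r, rfl⟩ x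
    refine hext ⟨_, hD⟩ le_rfl _ _ fun y hy => ?_
    let ψ := 𝒮.res U.2 (U.2.basicOpen r) (Y.basicOpen_le r)
    let z := ProjectiveSpectrum.comap ψ (𝒮.irrelevant_le_map U.1 U.2 r) y
    have hz : (RelProj.emb p chart U.1 U.2).base z ∈ p ⁻¹ᵁ Y.basicOpen r := by
      have := congr($(EgaQ.map_res_emb' hP U.2 hD i ⟨r, rfl⟩) y)
      simp only [Scheme.Hom.comp_apply] at this
      exact this.symm ▸ hy
    rw [hO1.compat U.1 U.2 r _ _ y hy hz, Eg2Rel.val_app_res U.2 (lam U.1 U.2) (p.preimage_mono i) (F U x) z hz,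
      hF U x z, hF, ← Localization.mk_one_eq_algebraMap, ← Localization.mk_one_eq_algebraMap]
    erw [GrTwist.locMap_mk]
    refine Localization.mk_eq_mk_iff.mpr (Localization.r_of_eq ?_)
    show (1 : 𝒮.presheaf.obj (op (Y.basicOpen r))) * ψ (jApp (A := 𝒮.toQCAlg) j U.1 x) =
      ψ 1 * jApp (A := 𝒮.toQCAlg) j (Y.basicOpen r) (res E i x)
    rw [one_mul, map_one, one_mul]
    exact jApp_res (A := 𝒮.toQCAlg) j (homOfLE i) x
  obtain ⟨f, hf⟩ := ProjDualR.HomAffine.exists_of_affine φ fun U V h x => by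
    show res O1 (p.preimage_mono h) (F U x) = F V (res E h x)
    refine eq_of_locally _ _ fun w hw => ?_
    obtain ⟨t, t', htt, hwt⟩ := exists_basicOpen_le_affine_inter U.2 V.2 (p w) ⟨h hw, hw⟩
    have hD : IsAffineOpen (Y.basicOpen t) := U.2.basicOpen t
    have iV : Y.basicOpen t ≤ V.1 := htt ▸ Y.basicOpen_le t'
    refine ⟨p ⁻¹ᵁ Y.basicOpen t, p.preimage_mono iV, hwt, ?_⟩
    rw [res_res, hbasic U ⟨_, hD⟩ (Y.basicOpen_le t) ⟨t, rfl⟩ x, hbasic V ⟨_, hD⟩ iV ⟨t', htt.symm⟩, res_res]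
  refine ⟨f, fun U hU e y => ?_⟩
  rw [hf ⟨U, hU⟩ e]
  exact hF ⟨U, hU⟩ e y.1 y.2

end phi

/-- Projective bundles exist. -/
theorem exists_bun {E : Y.Modules} (hE : Coh.IsQCoh E) : Nonempty (Bun E) := by
  obtain ⟨𝒮, j, hj⟩ := exists_isGrSymAlg hE
  obtain ⟨P, p, chart, hP⟩ := Proj16.exists_isRelProj 𝒮
  obtain ⟨O1, lam, hO1⟩ := EgaQ.TwistGlue.exists_isRelTwist hP 1
  obtain ⟨φ, hφ⟩ := exists_phi hE hj hP hO1
  exact ⟨⟨hE, 𝒮, j, hj, P, p, chart, hP, O1, lam, hO1, φ, hφ⟩⟩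

/-- Every datum of the definition of relative very ampleness extends to a bundle. -/
theorem exists_bun_of_data {E : Y.Modules} (hE : Coh.IsQCoh E) (𝒮 : RelProj.QCGrAlg Y) (j : E ⟶ 𝒮.toModule)
    (hj : RelProj.IsGrSymAlg E 𝒮 j) (P : Scheme.{u}) (p : P ⟶ Y)
    (chart : ∀ (U : Y.Opens) (hU : IsAffineOpen U), ((p ⁻¹ᵁ U : P.Opens) : Scheme.{u}) ≅ Proj (𝒮.deg U hU))
    (hP : RelProj.IsRelProj 𝒮 p chart) (O1 : P.Modules)
    (lam : ∀ (U : Y.Opens) (hU : IsAffineOpen U),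
      O1 ⟶ (Scheme.Modules.pushforward (RelProj.emb p chart U hU)).obj (GrTwist.twist (𝒮.deg U hU) 1))
    (hO1 : RelProj.IsRelTwist 𝒮 p chart 1 O1 lam) :
    ∃ φ, ∀ (U : Y.Opens) (hU : IsAffineOpen U) (e : Γ(E, U))
      (y : ↥(RelProj.emb p chart U hU ⁻¹ᵁ (p ⁻¹ᵁ U))),
      GrTwist.val (V := RelProj.emb p chart U hU ⁻¹ᵁ (p ⁻¹ᵁ U))
          ((lam U hU).app (p ⁻¹ᵁ U) ((Scheme.Modules.Hom.app (M := E) (N := (Scheme.Modules.pushforward p).obj O1) φ U) e)) y =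
        algebraMap (𝒮.presheaf.obj (op U)) (GrTwist.Loc (𝒮.deg U hU) y.1)
          ((j.app U) e : 𝒮.presheaf.obj (op U)) :=
  exists_phi hE hj hP hO1

end Groth.Agent.EgaQ.VA
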