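import Groth.Agent.EgaQ.VA.Emb
import Groth.Agent.QCoh.PullbackBC

/-!
# Sections that embed, along a factorisation
-/

universe u

open CategoryTheory CategoryTheory.Limits AlgebraicGeometry TopologicalSpace Opposite
open Groth.Agent.AModX

set_option backward.isDefEq.respectTransparency false
set_option backward.isDefEq.respectTransparency.types false
set_option linter.all false

noncomputable section

namespace Groth.Agent.EgaQ.VA

open Groth.Agent.Eg2Sym Groth.Agent.Eg2Bundle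

lemma homEquiv_symm_pullElt {Y X : Scheme.{u}} {E : Y.Modules} {g : X ⟶ Y} {L : X.Modules}
    (σ : E ⟶ (Scheme.Modules.pushforward g).obj L) (U : Y.Opens) (x : Γ(E, U)) :
    (((Scheme.Modules.pullbackPushforwardAdjunction g).homEquiv E L).symm σ).app (g ⁻¹ᵁ U) (InvX.pullElt g x) =
      (show Γ(L, g ⁻¹ᵁ U) from σ.app U x) := by
  set a := ((Scheme.Modules.pullbackPushforwardAdjunction g).homEquiv E L).symm σ with ha
  have h := congrArg (fun t : E ⟶ (Scheme.Modules.pushforward g).obj L => t.app U x)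
    ((Adjunction.homEquiv_unit _ E L a).symm.trans
      (((Scheme.Modules.pullbackPushforwardAdjunction g).homEquiv E L).apply_symm_apply σ))
  exact h

variable {X Y Z : Scheme.{u}} {f : X ⟶ Y} {g : Y ⟶ Z} {E : Z.Modules} {L : X.Modules}
  (σ : E ⟶ (Scheme.Modules.pushforward (f ≫ g)).obj L)

/-- The sections of `g^* E` given by those of `E`. -/
def midMap : (Scheme.Modules.pullback g).obj E ⟶ (Scheme.Modules.pushforward f).obj L :=
  ((Scheme.Modules.pullbackPushforwardAdjunction g).homEquiv E _).symm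
    (σ ≫ (Scheme.Modules.pushforwardComp f g).inv.app L)

lemma sec_midMap {U : Z.Opens} {U' : Y.Opens} (hU : U' ≤ g ⁻¹ᵁ U) {V : X.Opens} (h : V ≤ f ⁻¹ᵁ U') (x : Γ(E, U)) :
    sec f (midMap σ) h (res _ hU (InvX.pullElt g x)) =
      sec (f ≫ g) σ (h.trans (f.preimage_mono hU)) x := by
  rw [sec, sec, app_res]
  refine Eq.trans ?_ (res_res (M := L) (f.preimage_mono hU) h
    (show Γ(L, (f ≫ g) ⁻¹ᵁ U) from σ.app U x))
  refine congrArg (res L h) ?_
  refine (congrArg (res ((Scheme.Modules.pushforward f).obj L) hU) (homEquiv_symm_pullElt _ U x)).trans ?_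
  rfl

theorem Emb.midMap {σ : E ⟶ (Scheme.Modules.pushforward (f ≫ g)).obj L} (hσ : Emb σ) :
    Emb (midMap σ) := by
  refine hσ.transfer fun U hU e x hx => ?_
  obtain ⟨U', hU', hxU', hle'⟩ := exists_isAffineOpen_mem_and_subset (U := g ⁻¹ᵁ U) (x := f x)
    (show f x ∈ g ⁻¹ᵁ U from fLoc_le σ e hx)
  have hU'U : U' ≤ g ⁻¹ᵁ U := hle'
  let e' : Γ((Scheme.Modules.pullback g).obj E, U') := res _ hU'U (InvX.pullElt g e)
  let G' := fLoc (VA.midMap σ) e'
  have hG' : G' ≤ f ⁻¹ᵁ U' := fLoc_le _ _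
  have hle : G' ≤ fLoc σ e := le_fLoc σ (hG'.trans (f.preimage_mono hU'U))
    (by rw [← sec_midMap σ hU'U hG']; exact isFrame_fLoc _ e')
  refine ⟨U', hU', e', hle, ?_, fun r => ?_, fun y c hc => ?_⟩
  · refine le_fLoc (VA.midMap σ) (inf_le_right : fLoc σ e ⊓ f ⁻¹ᵁ U' ≤ f ⁻¹ᵁ U') ?_ ⟨hx, hxU'⟩
    rw [sec_midMap]
    exact isFrame_sec σ _ inf_le_left
  · refine Subring.subset_closure (Or.inl ⟨(g.appLE U U' hU'U).hom r, ?_⟩)
    show ((g.appLE U U' hU'U) ≫ f.appLE U' G' hG').hom r = _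
    rw [Scheme.Hom.appLE_comp_appLE]
    exact (ConcreteCategory.congr_hom (Scheme.Hom.appLE_map (f ≫ g) (fLoc_le σ e) (homOfLE hle).op) r).symm
  · refine coord_mem_coordRing _ e' (res _ hU'U (InvX.pullElt g y)) _ ?_
    rw [sec_midMap σ hU'U hG', sec_midMap σ hU'U hG', ← res_sec (f ≫ g) σ (fLoc_le σ e) hle y, hc, res_smul,
      res_sec]

theorem isRelVeryAmple_of_comp (h : RelProj.IsRelVeryAmple (f ≫ g) L) : RelProj.IsRelVeryAmple f L := by
  obtain ⟨E, hE, σ, hσ⟩ := exists_emb h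
  exact hσ.midMap.isRelVeryAmple (QCoh.isQCoh_pullback g hE)

end Groth.Agent.EgaQ.VA
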