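import Groth.Agent.EgaQ.VA.Bundle
import Groth.Agent.InvX.Tensor

/-!
# Very ampleness through the coordinates of a family of sections
-/

universe u

open CategoryTheory CategoryTheory.Limits AlgebraicGeometry TopologicalSpace Opposite HomogeneousLocalization
open Groth.Agent.AModX
open scoped HomogeneousIdeal

set_option backward.isDefEq.respectTransparency false
set_option backward.isDefEq.respectTransparency.types false
set_option linter.all false

noncomputable section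

namespace Groth.Agent.EgaQ.VA

open Groth.Agent.Eg2Sym Groth.Agent.Eg2Bundle

variable {Y X : Scheme.{u}} {E : Y.Modules} {g : X ⟶ Y} {L : X.Modules}
  (σ : E ⟶ (Scheme.Modules.pushforward g).obj L)

/-- The open on which the section given by `e` frames `L`. -/
def fLoc {U : Y.Opens} (e : Γ(E, U)) : X.Opens :=
  sSup {V | ∃ h : V ≤ g ⁻¹ᵁ U, InvX.IsFrame (sec g σ h e)}

lemma fLoc_le {U : Y.Opens} (e : Γ(E, U)) : fLoc σ e ≤ g ⁻¹ᵁ U := sSup_le fun _ h => h.1

lemma le_fLoc {U : Y.Opens} {e : Γ(E, U)} {V : X.Opens} (h : V ≤ g ⁻¹ᵁ U)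
    (he : InvX.IsFrame (sec g σ h e)) : V ≤ fLoc σ e := le_sSup ⟨h, he⟩

lemma isFrame_fLoc {U : Y.Opens} (e : Γ(E, U)) : InvX.IsFrame (sec g σ (fLoc_le σ e) e) := by
  refine InvX.isFrame_of_germ fun x hx => ?_
  obtain ⟨V, ⟨hV, he⟩, hxV⟩ := Opens.mem_sSup.mp hx
  have h1 := he.germ_bijective hxV
  rw [← res_sec g σ (fLoc_le σ e) (le_fLoc σ hV he), InvX.germ_res'] at h1
  exact h1

lemma isFrame_sec {U : Y.Opens} {e : Γ(E, U)} {V : X.Opens} (h : V ≤ g ⁻¹ᵁ U) (hV : V ≤ fLoc σ e) :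
    InvX.IsFrame (sec g σ h e) := by
  rw [← res_sec g σ (fLoc_le σ e) hV]; exact (isFrame_fLoc σ e).res hV

/-- The ring generated by the constants and the coordinates with respect to `e`. -/
def coordRing {U : Y.Opens} (e : Γ(E, U)) : Subring Γ(X, fLoc σ e) :=
  Subring.closure (Set.range (g.appLE U (fLoc σ e) (fLoc_le σ e)).hom ∪
    {c | ∃ x, sec g σ (fLoc_le σ e) x = c • sec g σ (fLoc_le σ e) e})

lemma appLE_mem_coordRing {U : Y.Opens} (e : Γ(E, U)) (r : Γ(Y, U)) :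
    (g.appLE U (fLoc σ e) (fLoc_le σ e)).hom r ∈ coordRing σ e := Subring.subset_closure (Or.inl ⟨r, rfl⟩)

lemma coord_mem_coordRing {U : Y.Opens} (e : Γ(E, U)) (x : Γ(E, U)) (c : Γ(X, fLoc σ e))
    (h : sec g σ (fLoc_le σ e) x = c • sec g σ (fLoc_le σ e) e) : c ∈ coordRing σ e :=
  Subring.subset_closure (Or.inr ⟨x, h⟩)

/-- The morphism given by the coordinates with respect to `e`. -/
def coordMap {U : Y.Opens} (e : Γ(E, U)) : (fLoc σ e).toScheme ⟶ Spec (CommRingCat.of (coordRing σ e)) :=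
  (fLoc σ e).toSpecΓ ≫ Spec.map (CommRingCat.ofHom (coordRing σ e).subtype)

/-- The sections given by `σ` embed. -/
def Emb : Prop :=
  ∀ x : X, ∃ (U : Y.Opens) (_ : IsAffineOpen U) (e : Γ(E, U)), x ∈ fLoc σ e ∧ IsImmersion (coordMap σ e)

section subring

variable {V W : X.Opens}

/-- A larger ring of functions on a smaller open still gives an immersion. -/
lemma isImmersion_of_subring_le (hW : W ≤ V) {R : CommRingCat.{u}} (κ : R ⟶ Γ(X, V))
    (S : Subring Γ(X, W)) (hle : ∀ a, resR hW (κ.hom a) ∈ S)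
    (h : IsImmersion (V.toSpecΓ ≫ Spec.map κ)) :
    IsImmersion (W.toSpecΓ ≫ Spec.map (CommRingCat.ofHom S.subtype)) := by
  let θ : R ⟶ CommRingCat.of S := CommRingCat.ofHom (((resR hW).comp κ.hom).codRestrict S hle)
  have e : (W.toSpecΓ ≫ Spec.map (CommRingCat.ofHom S.subtype)) ≫ Spec.map θ =
      X.homOfLE hW ≫ V.toSpecΓ ≫ Spec.map κ := by
    rw [Category.assoc, ← Spec.map_comp, ← Scheme.Opens.toSpecΓ_SpecMap_presheaf_map_assoc, ← Spec.map_comp]
    rfl
  have : IsImmersion ((W.toSpecΓ ≫ Spec.map (CommRingCat.ofHom S.subtype)) ≫ Spec.map θ) := by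
    rw [e]; infer_instance
  exact IsImmersion.of_comp _ (Spec.map θ)

/-- A morphism given by a ring map whose image lies in a subring. -/
lemma isImmersion_of_subring_ge (S : Subring Γ(X, V)) {R : CommRingCat.{u}} (κ : R ⟶ Γ(X, V))
    (hle : ∀ a ∈ S, ∃ b, κ.hom b = a) (hle' : ∀ b, κ.hom b ∈ S)
    (h : IsImmersion (V.toSpecΓ ≫ Spec.map (CommRingCat.ofHom S.subtype))) :
    IsImmersion (V.toSpecΓ ≫ Spec.map κ) := by
  let θ : R ⟶ CommRingCat.of S := CommRingCat.ofHom (κ.hom.codRestrict S hle')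
  have hθ : IsClosedImmersion (Spec.map θ) := IsClosedImmersion.spec_of_surjective θ fun a => by
    obtain ⟨b, hb⟩ := hle a.1 a.2; exact ⟨b, Subtype.ext hb⟩
  have e : V.toSpecΓ ≫ Spec.map κ = (V.toSpecΓ ≫ Spec.map (CommRingCat.ofHom S.subtype)) ≫ Spec.map θ := by
    rw [Category.assoc, ← Spec.map_comp]; rfl
  rw [e]; infer_instance

end subring

variable {σ}

/-- Comparison of two families of sections. -/
lemma Emb.transfer {Y' : Scheme.{u}} {E' : Y'.Modules} {g' : X ⟶ Y'} {L' : X.Modules}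
    {σ' : E' ⟶ (Scheme.Modules.pushforward g').obj L'} (hσ : Emb σ)
    (H : ∀ (U : Y.Opens) (hU : IsAffineOpen U) (e : Γ(E, U)) (x : X), x ∈ fLoc σ e →
      ∃ (U' : Y'.Opens) (_ : IsAffineOpen U') (e' : Γ(E', U')) (hle : fLoc σ' e' ≤ fLoc σ e), x ∈ fLoc σ' e' ∧
        (∀ r, resR hle ((g.appLE U (fLoc σ e) (fLoc_le σ e)).hom r) ∈ coordRing σ' e') ∧
        ∀ (y : Γ(E, U)) (c : Γ(X, fLoc σ e)), sec g σ (fLoc_le σ e) y = c • sec g σ (fLoc_le σ e) e →
          resR hle c ∈ coordRing σ' e') :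
    Emb σ' := fun x => by
  obtain ⟨U, hU, e, hx, himm⟩ := hσ x
  obtain ⟨U', hU', e', hle, hx', h0, h1⟩ := H U hU e x hx
  refine ⟨U', hU', e', hx', isImmersion_of_subring_le hle _ _ (fun a => ?_) himm⟩
  obtain ⟨a, ha⟩ := a
  show resR hle a ∈ coordRing σ' e'
  induction ha using Subring.closure_induction with
  | mem a ha =>
    rcases ha with ⟨r, rfl⟩ | ⟨y, hy⟩
    exacts [h0 r, h1 y a hy]
  | zero => rw [map_zero]; exact zero_mem _
  | one => rw [map_one]; exact one_mem _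
  | add a b _ _ ha hb => rw [map_add]; exact add_mem ha hb
  | neg a _ ha => rw [map_neg]; exact neg_mem ha
  | mul a b _ _ ha hb => rw [map_mul]; exact mul_mem ha hb

variable (B : Bun E)

/-- `r` classifies the sections given by `σ`. -/
structure Cls (σ : E ⟶ (Scheme.Modules.pushforward g).obj L) (r : X ⟶ B.P) where
  comp_eq : r ≫ B.p = g
  iso : (Scheme.Modules.pullback r).obj B.O1 ≅ L
  spec : ∀ (U : Y.Opens), IsAffineOpen U → ∀ (x : Γ(E, U)) (h : r ⁻¹ᵁ B.p ⁻¹ᵁ U ≤ g ⁻¹ᵁ U),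
    iso.hom.app (r ⁻¹ᵁ B.p ⁻¹ᵁ U) (InvX.pullElt r (show Γ(B.O1, B.p ⁻¹ᵁ U) from B.phi.app U x)) = sec g σ h x

variable {B}

lemma exists_cls (σ : E ⟶ (Scheme.Modules.pushforward g).obj L)
    (hσ : ∀ x, ∃ a : Datum σ, x ∈ a.V) : ∃ r, Nonempty (Cls B σ r) := by
  obtain ⟨r, hr, hspec⟩ := exists_classifying (chart := B.chart) B.qcoh B.isSym B.isProj hσ
  obtain ⟨τ, hτ⟩ := exists_tau B.phi B.qcoh B.isSym B.isTwist B.phi_val hr hspec hσ
  exact ⟨r, ⟨⟨hr, τ, hτ⟩⟩⟩

variable {r : X ⟶ B.P} (C : Cls B σ r)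
include C

lemma Cls.preimage (U : Y.Opens) : r ⁻¹ᵁ B.p ⁻¹ᵁ U = g ⁻¹ᵁ U := by
  rw [← Scheme.Hom.comp_preimage, C.comp_eq]

lemma Cls.sec_eq {U : Y.Opens} (hU : IsAffineOpen U) {V : X.Opens} (h : V ≤ g ⁻¹ᵁ U) (x : Γ(E, U)) :
    sec g σ h x = C.iso.hom.app V (pp r B.phi (h.trans (C.preimage U).ge) x) := by
  rw [pp, app_res, C.spec U hU x (C.preimage U).le, res_sec]

lemma Cls.preimage_genOpen {U : Y.Opens} (hU : IsAffineOpen U) (e : Γ(E, U)) :
    r ⁻¹ᵁ genOpen B.j B.chart hU e = fLoc σ e := by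
  have hG : r ⁻¹ᵁ genOpen B.j B.chart hU e ≤ g ⁻¹ᵁ U :=
    (r.preimage_mono (genOpen_le (j := B.j) (chart := B.chart) hU e)).trans (C.preimage U).le
  refine le_antisymm (le_fLoc σ hG ?_) fun x hx => ?_
  · rw [C.sec_eq hU hG e]
    exact (isFrame_pp B.isSym B.isTwist B.phi B.phi_val hU e le_rfl _).map_iso C.iso
  · have hxU : x ∈ g ⁻¹ᵁ U := fLoc_le σ e hx
    obtain ⟨e', he'⟩ := exists_mem_genOpen (chart := B.chart) B.qcoh B.isSym hU (r x)
      (show x ∈ r ⁻¹ᵁ B.p ⁻¹ᵁ U from (C.preimage U).ge hxU)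
    set W := fLoc σ e ⊓ r ⁻¹ᵁ genOpen B.j B.chart hU e'
    have hWU : W ≤ g ⁻¹ᵁ U := inf_le_left.trans (fLoc_le σ e)
    set κ := (r.appLE (genOpen B.j B.chart hU e') W inf_le_right).hom.comp (theta B.chart hU e')
    have hc : sec g σ hWU e = κ (gen1 B.isSym hU e' e) • sec g σ hWU e' := by
      rw [C.sec_eq hU hWU, C.sec_eq hU hWU,
        pp_coord B.isSym B.isTwist B.phi B.phi_val hU e' (inf_le_right : W ≤ _) (hWU.trans (C.preimage U).ge) e,
        Scheme.Modules.Hom.app_smul]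
      rfl
    obtain ⟨c, hc'⟩ := (isFrame_sec σ hWU inf_le_left).exists_coord le_rfl (sec g σ hWU e')
    rw [res_self] at hc'
    have hu : IsUnit (κ (gen1 B.isSym hU e' e)) := IsUnit.of_mul_eq_one c
      ((isFrame_sec σ hWU inf_le_left).coord_unique le_rfl (by
        rw [res_self, one_smul, mul_smul, ← hc', ← hc]))
    have h2 := (chartMap_mem_genOpen_iff (chart := B.chart) B.isSym hU e' κ e ⟨x, hx, he'⟩).2
      ((X.mem_basicOpen (κ (gen1 B.isSym hU e' e)) x (show x ∈ W from ⟨hx, he'⟩)).2 (hu.map _))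
    rw [← ι_comp_eq_chartMap B.isSym hU e' r inf_le_right] at h2
    exact h2

lemma Cls.isKappa {U : Y.Opens} (hU : IsAffineOpen U) (e : Γ(E, U)) :
    IsKappa σ B.isSym hU e (fLoc_le σ e)
      ((r.appLE (genOpen B.j B.chart hU e) (fLoc σ e) (C.preimage_genOpen hU e).ge).hom.comp
        (theta B.chart hU e)) := by
  have hle := (C.preimage_genOpen hU e).ge
  have hm := ι_comp_eq_chartMap (chart := B.chart) B.isSym hU e r hle
  refine ⟨fun c => cst_of_proj B.isSym B.isProj hU e (g := g) (fLoc_le σ e) _ ?_ c, fun y => ?_⟩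
  · rw [← hm, Category.assoc, C.comp_eq]
  · rw [C.sec_eq hU (fLoc_le σ e), C.sec_eq hU (fLoc_le σ e),
      pp_coord B.isSym B.isTwist B.phi B.phi_val hU e hle ((fLoc_le σ e).trans (C.preimage U).ge) y,
      Scheme.Modules.Hom.app_smul]
    rfl

omit C in
/-- The image of a chart ring is generated by constants and coordinates. -/
lemma kappa_mem {U : Y.Opens} {hU : IsAffineOpen U} {e : Γ(E, U)}
    {κ : CR B.j hU e →+* Γ(X, fLoc σ e)} (hκ : IsKappa σ B.isSym hU e (fLoc_le σ e) κ) (a : CR B.j hU e) :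
    κ a ∈ coordRing σ e := by
  have hj := B.isSym
  have key : ∀ (n : ℕ) (a : B.sym.presheaf.obj (op U)), a ∈ deg (A := B.sym.toQCAlg) B.j U n →
      ∀ ha : a ∈ B.sym.deg U hU (n • 1), κ (Away.mk _ (jApp_mem_one hj hU e) n a ha) ∈ coordRing σ e := by
    intro n
    induction n with
    | zero =>
      intro a ha ha'
      obtain ⟨c, rfl⟩ := (mem_powSub_zero _ _ _).mp ha
      exact (hκ.1 c).symm ▸ appLE_mem_coordRing σ e c
    | succ n ih =>
      intro a ha
      refine (powSub_succ_induction _ _ _ (P := fun a => a ∈ B.sym.deg U hU ((n + 1) • 1) ∧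
          ∀ ha' : a ∈ B.sym.deg U hU ((n + 1) • 1),
            κ (Away.mk _ (jApp_mem_one hj hU e) (n + 1) a ha') ∈ coordRing σ e)
        ha (fun b hb x => ?_) (fun b c hb hc => ?_)).2
      · have hb' : b ∈ B.sym.deg U hU (n • 1) := by
          rw [deg_eq B.qcoh hj hU, smul_eq_mul, mul_one]; exact hb
        refine ⟨by
          rw [smul_eq_mul, mul_one] at hb' ⊢
          exact SetLike.mul_mem_graded hb' (jApp_mem_one hj hU x), fun ha' => ?_⟩
        have e1 : Away.mk (B.sym.deg U hU) (jApp_mem_one hj hU e) (n + 1) (b * jApp (A := B.sym.toQCAlg) B.j U x) ha' =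
            Away.mk (B.sym.deg U hU) (jApp_mem_one hj hU e) n b hb' * gen1 hj hU e x := by
          refine val_injective _ ?_
          rw [val_mul, gen1, Away.val_mk, Away.val_mk, Away.val_mk, Localization.mk_mul]
          exact Localization.mk_eq_mk_iff.mpr (Localization.r_of_eq (by simp [pow_succ, mul_comm]))
        rw [e1, map_mul]
        exact mul_mem (ih b hb hb') (coord_mem_coordRing σ e x _ (hκ.2 x))
      · refine ⟨AddSubgroup.add_mem _ hb.1 hc.1, fun ha' => ?_⟩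
        have e1 : Away.mk (B.sym.deg U hU) (jApp_mem_one hj hU e) (n + 1) (b + c) ha' =
            Away.mk (B.sym.deg U hU) (jApp_mem_one hj hU e) (n + 1) b hb.1 +
              Away.mk (B.sym.deg U hU) (jApp_mem_one hj hU e) (n + 1) c hc.1 := by
          refine val_injective _ ?_
          rw [val_add, Away.val_mk, Away.val_mk, Away.val_mk, Localization.add_mk_self]
        rw [e1, map_add]
        exact add_mem (hb.2 hb.1) (hc.2 hc.1)
  obtain ⟨n, b, hb, rfl⟩ := a.mk_surjective (B.sym.deg U hU) (jApp_mem_one hj hU e)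
  refine key n b ?_ hb
  have h := hb
  rw [deg_eq B.qcoh hj hU, smul_eq_mul, mul_one] at h
  exact h

omit C in
lemma exists_kappa_eq {U : Y.Opens} {hU : IsAffineOpen U} {e : Γ(E, U)}
    {κ : CR B.j hU e →+* Γ(X, fLoc σ e)} (hκ : IsKappa σ B.isSym hU e (fLoc_le σ e) κ) (a : Γ(X, fLoc σ e))
    (ha : a ∈ coordRing σ e) : ∃ b, κ b = a := by
  refine (Subring.closure_le (t := κ.range)).mpr ?_ ha
  rintro _ (⟨c, rfl⟩ | ⟨x, hx⟩)
  · exact ⟨_, hκ.1 c⟩
  · exact ⟨gen1 B.isSym hU e x, (isFrame_fLoc σ e).coord_unique le_rfl (by rw [res_self, ← hκ.2, hx])⟩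

theorem Cls.isImmersion_iff : IsImmersion r ↔ Emb σ := by
  constructor
  · intro hr x
    obtain ⟨U, hU, hxU, -⟩ := exists_isAffineOpen_mem_and_subset (U := (⊤ : Y.Opens)) (x := g x) (Opens.mem_top _)
    obtain ⟨e, he⟩ := exists_mem_genOpen (chart := B.chart) B.qcoh B.isSym hU (r x)
      (show x ∈ r ⁻¹ᵁ B.p ⁻¹ᵁ U from (C.preimage U).ge hxU)
    refine ⟨U, hU, e, (C.preimage_genOpen hU e).le he, ?_⟩
    set κ := (r.appLE (genOpen B.j B.chart hU e) (fLoc σ e) (C.preimage_genOpen hU e).ge).hom.comp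
      (theta B.chart hU e) with hκdef
    have hm : (fLoc σ e).ι ≫ r = chartMap B.chart B.isSym hU e κ :=
      ι_comp_eq_chartMap B.isSym hU e r _
    have h1 : IsImmersion ((fLoc σ e).toSpecΓ ≫ Spec.map (CommRingCat.ofHom κ)) := by
      have : IsImmersion (((fLoc σ e).toSpecΓ ≫ Spec.map (CommRingCat.ofHom κ)) ≫
          jmor B.chart B.isSym hU e) := by
        rw [Category.assoc, ← chartMap, ← hm]; infer_instance
      exact IsImmersion.of_comp _ (jmor B.chart B.isSym hU e)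
    exact isImmersion_of_subring_le le_rfl (CommRingCat.ofHom κ) _ (fun a => by
      rw [show resR (le_refl (fLoc σ e)) = RingHom.id _ from by ext b; simp [resR]]
      exact kappa_mem (C.isKappa hU e) a) h1
  · intro h
    choose U hU e hx himm using h
    have hloc : ∀ x, IsImmersion ((fLoc σ (e x)).ι ≫ r) := fun x => by
      rw [ι_comp_eq_chartMap (chart := B.chart) B.isSym (hU x) (e x) r (C.preimage_genOpen (hU x) (e x)).ge,
        chartMap, ← Category.assoc]
      set κ := (r.appLE (genOpen B.j B.chart (hU x) (e x)) (fLoc σ (e x)) (C.preimage_genOpen (hU x) (e x)).ge).hom.comp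
        (theta B.chart (hU x) (e x)) with hκ
      have hk : IsKappa σ B.isSym (hU x) (e x) (fLoc_le σ (e x)) κ := C.isKappa (hU x) (e x)
      have := isImmersion_of_subring_ge (coordRing σ (e x)) (R := CommRingCat.of (CR B.j (hU x) (e x)))
        (CommRingCat.ofHom κ) (exists_kappa_eq hk) (kappa_mem hk) (himm x)
      have : IsOpenImmersion (jmor B.chart B.isSym (hU x) (e x)) := by unfold jmor; infer_instance
      infer_instance
    let W : B.P.Opens := ⨆ x, genOpen B.j B.chart (hU x) (e x)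
    have hpre : r ⁻¹ᵁ W = ⊤ := top_le_iff.mp fun x _ =>
      Opens.mem_iSup.mpr ⟨x, (C.preimage_genOpen (hU x) (e x)).ge (hx x)⟩
    let r' : X ⟶ W.toScheme := IsOpenImmersion.lift W.ι r (by
      rw [Scheme.Opens.range_ι]; rintro _ ⟨x, rfl⟩; exact hpre.ge (Set.mem_univ x))
    have hr' : r' ≫ W.ι = r := IsOpenImmersion.lift_fac _ _ _
    suffices IsImmersion r' by rw [← hr']; infer_instance
    refine (IsZariskiLocalAtTarget.iff_of_iSup_eq_top (P := @IsImmersion.{u})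
      (fun x => W.ι ⁻¹ᵁ genOpen B.j B.chart (hU x) (e x)) ?_).mpr fun x => ?_
    · apply Opens.ext
      ext w
      simpa [W] using w.2
    · have hp : r' ⁻¹ᵁ W.ι ⁻¹ᵁ genOpen B.j B.chart (hU x) (e x) = fLoc σ (e x) := by
        rw [← Scheme.Hom.comp_preimage, hr', C.preimage_genOpen]
      have : IsImmersion ((r' ∣_ W.ι ⁻¹ᵁ genOpen B.j B.chart (hU x) (e x)) ≫
          (W.ι ⁻¹ᵁ genOpen B.j B.chart (hU x) (e x)).ι ≫ W.ι) := by
        rw [morphismRestrict_ι_assoc, hr', ← Scheme.isoOfEq_hom_ι (X := X) hp, Category.assoc]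
        have := hloc x
        infer_instance
      exact IsImmersion.of_comp _ ((W.ι ⁻¹ᵁ genOpen B.j B.chart (hU x) (e x)).ι ≫ W.ι)

omit C

lemma Emb.datum (hσ : Emb σ) (x : X) : ∃ a : Datum σ, x ∈ a.V := by
  obtain ⟨U, hU, e, hx, -⟩ := hσ x
  exact ⟨⟨U, hU, e, fLoc σ e, fLoc_le σ e, isFrame_fLoc σ e⟩, hx⟩

/-- Sections that embed give very ampleness. -/
theorem Emb.isRelVeryAmple (hE : Coh.IsQCoh E) (hσ : Emb σ) : RelProj.IsRelVeryAmple g L := by
  obtain ⟨B⟩ := exists_bun hE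
  obtain ⟨r, ⟨C⟩⟩ := exists_cls (B := B) σ hσ.datum
  exact ⟨E, hE, B.sym, B.j, B.isSym, B.P, B.p, B.chart, B.isProj, B.O1, B.lam, B.isTwist, r,
    C.isImmersion_iff.mpr hσ, C.comp_eq, ⟨C.iso.symm⟩⟩

/-- Very ampleness gives sections that embed. -/
theorem exists_emb (h : RelProj.IsRelVeryAmple g L) :
    ∃ (E : Y.Modules) (_ : Coh.IsQCoh E) (σ : E ⟶ (Scheme.Modules.pushforward g).obj L), Emb σ := by
  obtain ⟨E, hE, 𝒮, j, hj, P, p, chart, hP, O1, lam, hO1, i, himm, hip, ⟨eL⟩⟩ := h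
  obtain ⟨φ, hφ⟩ := exists_phi hE hj hP hO1
  let B : Bun E := ⟨hE, 𝒮, j, hj, P, p, chart, hP, O1, lam, hO1, φ, hφ⟩
  let s := composite φ hip eL.inv
  let σ := (Scheme.Modules.pullbackPushforwardAdjunction g).homEquiv E L s
  let C : Cls B σ i := ⟨hip, eL.symm, (composite_eq_iff φ hip eL.inv s).1 rfl⟩
  exact ⟨E, hE, σ, C.isImmersion_iff.mp himm⟩

end Groth.Agent.EgaQ.VA
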