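import Groth.Agent.EgaQ.VA.Emb

/-!
# Invertible modules are very ample relative to the identity
-/

universe u

open CategoryTheory CategoryTheory.Limits AlgebraicGeometry TopologicalSpace Opposite
open Groth.Agent.AModX

set_option backward.isDefEq.respectTransparency false
set_option backward.isDefEq.respectTransparency.types false
set_option linter.all false

noncomputable section

namespace Groth.Agent.EgaQ.VA

open Groth.Agent.Eg2Sym Groth.Agent.Eg2Bundle

theorem isRelVeryAmple_id (Y : Scheme.{u}) (L : Y.Modules) (hL : PicF.IsInvertible L) :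
    RelProj.IsRelVeryAmple (𝟙 Y) L := by
  let σ : L ⟶ (Scheme.Modules.pushforward (𝟙 Y)).obj L := (Scheme.Modules.pushforwardId Y).inv.app L
  refine Emb.isRelVeryAmple (σ := σ) (ProjUPX.isQCoh_of_isInvertible hL) fun x => ?_
  obtain ⟨V, hxV, ℓ, hℓ⟩ := InvX.exists_frame hL x
  obtain ⟨U, hU, hxU, hle⟩ := exists_isAffineOpen_mem_and_subset (U := V) (x := x) hxV
  have hUV : U ≤ V := hle
  let e : Γ(L, U) := res L hUV ℓ
  have hsec : ∀ (W : Y.Opens) (h : W ≤ (𝟙 Y : Y ⟶ Y) ⁻¹ᵁ U) (y : Γ(L, U)), sec (𝟙 Y) σ h y = res L h y :=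
    fun W h y => rfl
  have hG : fLoc σ e = U := le_antisymm (fLoc_le σ e) (le_fLoc σ (le_refl _) (by
    rw [hsec]; exact (hℓ.res hUV).res _))
  have hGaff : IsAffineOpen (fLoc σ e) := by rw [hG]; exact hU
  refine ⟨U, hU, e, hG.ge hxU, ?_⟩
  have hsurj : ∀ a : Γ(Y, fLoc σ e), a ∈ coordRing σ e := fun a =>
    Subring.subset_closure (Or.inl ⟨resR hG.ge a, by
      show ((𝟙 Y : Y ⟶ Y).appLE U (fLoc σ e) (fLoc_le σ e)).hom (resR hG.ge a) = a
      rw [Scheme.Hom.appLE]
      simp only [Scheme.Hom.id_app, Category.id_comp, resR]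
      show ((Y.presheaf.map (homOfLE hG.ge).op) ≫ Y.presheaf.map (homOfLE _).op).hom a = a
      rw [← Functor.map_comp, ← op_comp, homOfLE_comp]
      simp⟩)
  rw [coordMap, ← hGaff.isoSpec_hom]
  have : IsClosedImmersion (Spec.map (CommRingCat.ofHom (coordRing σ e).subtype)) :=
    IsClosedImmersion.spec_of_surjective _ fun a => ⟨⟨a, hsurj a⟩, rfl⟩
  infer_instance

end Groth.Agent.EgaQ.VA
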