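import Groth.Agent.EgaQ.VA.Emb
import Groth.Agent.EgaQ.Pairing
import Groth.Agent.S2297
import Groth.Agent.H23.PicMul
import Groth.Agent.H23.PicInv
import Groth.Agent.PicClLib.Basic
import Groth.Agent.QCoh.Pullback

/-!
# Tensor products of very ample modules
-/

universe u

open CategoryTheory CategoryTheory.Limits AlgebraicGeometry TopologicalSpace Opposite
open Groth.Agent.AModX

set_option backward.isDefEq.respectTransparency false
set_option backward.isDefEq.respectTransparency.types false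
set_option linter.all false
set_option maxHeartbeats 800000

noncomputable section

namespace Groth.Agent.EgaQ.VA

open Groth.Agent.Eg2Sym Groth.Agent.Eg2Bundle

variable {Y X : Scheme.{u}} {g : X ⟶ Y}

lemma tmul_add_left {M N : X.Modules} {U : X.Opens} (a a' : Γ(M, U)) (b : Γ(N, U)) :
    InvX.tmul (a + a') b = InvX.tmul a b + InvX.tmul a' b :=
  (congrArg _ (KFlatLib.tm_add_left a a' b)).trans (map_add _ _ _)

lemma tmul_add_right {M N : X.Modules} {U : X.Opens} (a : Γ(M, U)) (b b' : Γ(N, U)) :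
    InvX.tmul a (b + b') = InvX.tmul a b + InvX.tmul a b' :=
  (congrArg _ (KFlatLib.tm_add_right a b b')).trans (map_add _ _ _)

variable {E₁ E₂ : Y.Modules} {L₁ L₂ : X.Modules}
  (σ₁ : E₁ ⟶ (Scheme.Modules.pushforward g).obj L₁) (σ₂ : E₂ ⟶ (Scheme.Modules.pushforward g).obj L₂)

/-- The pairing of two families of sections. -/
def secPairing : ModPairing E₁ E₂ ((Scheme.Modules.pushforward g).obj (CohB1.tensorMod L₁ L₂)) where
  app U a b := InvX.tmul (show Γ(L₁, g ⁻¹ᵁ U) from σ₁.app U a) (show Γ(L₂, g ⁻¹ᵁ U) from σ₂.app U b)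
  add_left U a a' b := (congrArg (fun t : Γ(L₁, g ⁻¹ᵁ U) => InvX.tmul t _) (map_add (σ₁.app U).hom a a')).trans
    (tmul_add_left _ _ _)
  add_right U a b b' := (congrArg (fun t : Γ(L₂, g ⁻¹ᵁ U) => InvX.tmul _ t) (map_add (σ₂.app U).hom b b')).trans
    (tmul_add_right _ _ _)
  smul_left U r a b := (congrArg (fun t : Γ(L₁, g ⁻¹ᵁ U) => InvX.tmul t _) (σ₁.app_smul r a)).trans
    (InvX.tmul_smul_left (g.app U r) (show Γ(L₁, g ⁻¹ᵁ U) from σ₁.app U a) _)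
  smul_right U r a b := (congrArg (fun t : Γ(L₂, g ⁻¹ᵁ U) => InvX.tmul _ t) (σ₂.app_smul r b)).trans
    (InvX.tmul_smul_right (g.app U r) _ (show Γ(L₂, g ⁻¹ᵁ U) from σ₂.app U b))
  res {U V} h a b := by
    refine Eq.trans ?_ (InvX.res_tmul (g.preimage_mono h) (show Γ(L₁, g ⁻¹ᵁ U) from σ₁.app U a)
      (show Γ(L₂, g ⁻¹ᵁ U) from σ₂.app U b)).symm
    exact congrArg₂ (InvX.tmul (U := g ⁻¹ᵁ V)) (app_res σ₁ h a) (app_res σ₂ h b)

/-- The sections of the tensor product. -/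
def prodMap : CohB1.tensorMod E₁ E₂ ⟶ (Scheme.Modules.pushforward g).obj (CohB1.tensorMod L₁ L₂) :=
  (secPairing σ₁ σ₂).hom

lemma sec_prodMap {U : Y.Opens} {V : X.Opens} (h : V ≤ g ⁻¹ᵁ U) (a : Γ(E₁, U)) (b : Γ(E₂, U)) :
    sec g (prodMap σ₁ σ₂) h (InvX.tmul a b) = InvX.tmul (sec g σ₁ h a) (sec g σ₂ h b) := by
  rw [sec, prodMap, ModPairing.hom_tmul]
  exact InvX.res_tmul h _ _

/-- A frame of a tensor product of invertible modules comes from frames. -/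
lemma isFrame_left_of_tmul (h₁ : PicF.IsInvertible L₁) (h₂ : PicF.IsInvertible L₂) {V : X.Opens}
    {a : Γ(L₁, V)} {b : Γ(L₂, V)} (h : InvX.IsFrame (InvX.tmul a b)) : InvX.IsFrame a := by
  refine InvX.isFrame_of_germ fun x hx => ?_
  obtain ⟨W₀, hxW₀, e₁, e₂, he₁, he₂⟩ := InvX.exists_frame₂ h₁ h₂ x
  set W := V ⊓ W₀
  have hWV : W ≤ V := inf_le_left
  have hW₀ : W ≤ W₀ := inf_le_right
  have hxW : x ∈ W := ⟨hx, hxW₀⟩
  obtain ⟨α, hα⟩ := he₁.exists_coord hW₀ (res L₁ hWV a)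
  obtain ⟨β, hβ⟩ := he₂.exists_coord hW₀ (res L₂ hWV b)
  set f₁ := res L₁ hW₀ e₁
  set f₂ := res L₂ hW₀ e₂
  have hf := InvX.isFrame_tmul (he₁.res hW₀) (he₂.res hW₀)
  have hw := h.res hWV
  rw [InvX.res_tmul, hα, hβ, InvX.tmul_smul_left, InvX.tmul_smul_right, ← mul_smul] at hw
  obtain ⟨c, hc⟩ := hw.exists_coord le_rfl (InvX.tmul f₁ f₂)
  rw [res_self, ← mul_smul] at hc
  have hu : IsUnit α := IsUnit.of_mul_eq_one (β * c) (hf.coord_unique le_rfl (by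
    rw [res_self, one_smul]
    refine Eq.trans ?_ hc.symm
    congr 1
    ring))
  have h1 : InvX.IsFrame (res L₁ hWV a) := by
    rw [hα]; exact (he₁.res hW₀).isUnit_smul hu
  have h2 := h1.germ_bijective hxW
  rw [InvX.germ_res'] at h2
  exact h2

/-- The same for the right factor. -/
lemma isFrame_right_of_tmul (h₁ : PicF.IsInvertible L₁) (h₂ : PicF.IsInvertible L₂) {V : X.Opens}
    {a : Γ(L₁, V)} {b : Γ(L₂, V)} (h : InvX.IsFrame (InvX.tmul a b)) : InvX.IsFrame b := by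
  refine InvX.isFrame_of_germ fun x hx => ?_
  obtain ⟨W₀, hxW₀, e₁, e₂, he₁, he₂⟩ := InvX.exists_frame₂ h₁ h₂ x
  set W := V ⊓ W₀
  have hWV : W ≤ V := inf_le_left
  have hW₀ : W ≤ W₀ := inf_le_right
  have hxW : x ∈ W := ⟨hx, hxW₀⟩
  obtain ⟨α, hα⟩ := he₁.exists_coord hW₀ (res L₁ hWV a)
  obtain ⟨β, hβ⟩ := he₂.exists_coord hW₀ (res L₂ hWV b)
  set f₁ := res L₁ hW₀ e₁
  set f₂ := res L₂ hW₀ e₂
  have hf := InvX.isFrame_tmul (he₁.res hW₀) (he₂.res hW₀)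
  have hw := h.res hWV
  rw [InvX.res_tmul, hα, hβ, InvX.tmul_smul_left, InvX.tmul_smul_right, ← mul_smul] at hw
  obtain ⟨c, hc⟩ := hw.exists_coord le_rfl (InvX.tmul f₁ f₂)
  rw [res_self, ← mul_smul] at hc
  have hu : IsUnit β := IsUnit.of_mul_eq_one (α * c) (hf.coord_unique le_rfl (by
    rw [res_self, one_smul]
    refine Eq.trans ?_ hc.symm
    congr 1
    ring))
  have h1 : InvX.IsFrame (res L₂ hWV b) := by
    rw [hβ]; exact (he₂.res hW₀).isUnit_smul hu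
  have h2 := h1.germ_bijective hxW
  rw [InvX.germ_res'] at h2
  exact h2

theorem Emb.tensor (h₁ : PicF.IsInvertible L₁) (h₂ : PicF.IsInvertible L₂)
    {σ₁ : E₁ ⟶ (Scheme.Modules.pushforward g).obj L₁} {σ₂ : E₂ ⟶ (Scheme.Modules.pushforward g).obj L₂}
    (hσ₁ : Emb σ₁) (hσ₂ : ∀ x, ∃ a : Datum σ₂, x ∈ a.V) : Emb (prodMap σ₁ σ₂) := by
  refine hσ₁.transfer fun U hU e x hx => ?_
  obtain ⟨⟨U₂, hU₂, e₂, V₂, hV₂, he₂⟩, hxV₂⟩ := hσ₂ x
  obtain ⟨t, t', htt, hxt⟩ := exists_basicOpen_le_affine_inter hU hU₂ (g x) ⟨fLoc_le σ₁ e hx, hV₂ hxV₂⟩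
  set D := Y.basicOpen t
  have iU : D ≤ U := Y.basicOpen_le t
  have i₂ : D ≤ U₂ := htt ▸ Y.basicOpen_le t'
  let e' : Γ(CohB1.tensorMod E₁ E₂, D) := InvX.tmul (res E₁ iU e) (res E₂ i₂ e₂)
  have hG : fLoc (prodMap σ₁ σ₂) e' ≤ g ⁻¹ᵁ D := fLoc_le _ _
  set G := fLoc (prodMap σ₁ σ₂) e'
  have hGU : G ≤ g ⁻¹ᵁ U := hG.trans (g.preimage_mono iU)
  have hfr := isFrame_fLoc (prodMap σ₁ σ₂) e'
  rw [sec_prodMap, sec_res] at hfr
  have hle : G ≤ fLoc σ₁ e := le_fLoc σ₁ hGU (isFrame_left_of_tmul h₁ h₂ hfr)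
  refine ⟨D, hU.basicOpen t, e', hle, ?_, fun r => ?_, fun y c hc => ?_⟩
  · refine le_fLoc (prodMap σ₁ σ₂)
      (inf_le_right : (fLoc σ₁ e ⊓ V₂) ⊓ g ⁻¹ᵁ D ≤ g ⁻¹ᵁ D) ?_ ⟨⟨hx, hxV₂⟩, hxt⟩
    rw [sec_prodMap, sec_res, sec_res]
    refine InvX.isFrame_tmul (isFrame_sec σ₁ _ (inf_le_left.trans inf_le_left)) ?_
    rw [← res_sec g σ₂ hV₂ (inf_le_left.trans inf_le_right : (fLoc σ₁ e ⊓ V₂) ⊓ g ⁻¹ᵁ D ≤ V₂)]
    exact he₂.res _
  · refine Subring.subset_closure (Or.inl ⟨resR iU r, ?_⟩)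
    show ((Y.presheaf.map (homOfLE iU).op) ≫ g.appLE D G hG).hom r =
      (g.appLE U (fLoc σ₁ e) (fLoc_le σ₁ e) ≫ X.presheaf.map (homOfLE hle).op).hom r
    rw [Scheme.Hom.map_appLE, Scheme.Hom.appLE_map]
  · refine coord_mem_coordRing _ e' (InvX.tmul (res E₁ iU y) (res E₂ i₂ e₂)) _ ?_
    rw [sec_prodMap, sec_prodMap, sec_res, sec_res, ← res_sec g σ₁ (fLoc_le σ₁ e) hle y, hc, res_smul,
      res_sec, InvX.tmul_smul_left]
    simp only [sec_res]; rfl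

theorem isQCoh_tensor' {A B : Y.Modules} (hA : Coh.IsQCoh A) (hB : Coh.IsQCoh B) :
    Coh.IsQCoh (CohB1.tensorMod A B) := by
  haveI := hA
  haveI := hB
  exact (S2297.result A B).1

theorem isRelVeryAmple_tensor_of_gen (h₁ : PicF.IsInvertible L₁) (h₂ : PicF.IsInvertible L₂)
    (hva : RelProj.IsRelVeryAmple g L₁) {E' : Y.Modules} (hE' : Coh.IsQCoh E')
    (s : (Scheme.Modules.pullback g).obj E' ⟶ L₂) [Epi s] :
    RelProj.IsRelVeryAmple g (CohB1.tensorMod L₁ L₂) := by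
  obtain ⟨E, hE, σ, hσ⟩ := exists_emb hva
  refine (hσ.tensor (σ₂ := (Scheme.Modules.pullbackPushforwardAdjunction g).homEquiv E' L₂ s) h₁ h₂
    fun x => ?_).isRelVeryAmple (isQCoh_tensor' hE hE')
  obtain ⟨U, hU, e, V, h, hx, he⟩ := exists_sec_frame hE' h₂ s x
  exact ⟨⟨U, hU, e, V, h, he⟩, hx⟩

theorem isRelVeryAmple_tensor (h₁ : PicF.IsInvertible L₁) (h₂ : PicF.IsInvertible L₂)
    (hva₁ : RelProj.IsRelVeryAmple g L₁) (hva₂ : RelProj.IsRelVeryAmple g L₂) :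
    RelProj.IsRelVeryAmple g (CohB1.tensorMod L₁ L₂) := by
  obtain ⟨E, hE, σ, hσ⟩ := exists_emb hva₁
  obtain ⟨E', hE', σ', hσ'⟩ := exists_emb hva₂
  exact (hσ.tensor h₁ h₂ hσ'.datum).isRelVeryAmple (isQCoh_tensor' hE hE')

theorem isRelVeryAmple_of_iso {L L' : X.Modules} (e : L ≅ L') (h : RelProj.IsRelVeryAmple g L) :
    RelProj.IsRelVeryAmple g L' := by
  obtain ⟨E, hE, 𝒮, j, hj, P, p, chart, hP, O1, lam, hO1, i, himm, hip, ⟨eL⟩⟩ := h
  exact ⟨E, hE, 𝒮, j, hj, P, p, chart, hP, O1, lam, hO1, i, himm, hip, ⟨e.symm ≪≫ eL⟩⟩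

theorem isRelVeryAmple_tensorPow {L : X.Modules} (hL : PicF.IsInvertible L) (h : RelProj.IsRelVeryAmple g L) :
    ∀ n : ℕ, 0 < n → RelProj.IsRelVeryAmple g (CohB1.tensorPow L n)
  | 1, _ => by
    obtain ⟨c⟩ := H23.PicMul.comm (Coh.structureModule X) L
    obtain ⟨e⟩ := H23.PicMul.unit L
    exact isRelVeryAmple_of_iso (c ≪≫ e).symm h
  | n + 2, _ => isRelVeryAmple_tensor (InvX.isInvertible_tensorPow hL _) hL
      (isRelVeryAmple_tensorPow hL h (n + 1) n.succ_pos) h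

/-- The inverse image of the structure module. -/
def pullUnit (g : X ⟶ Y) :
    (Scheme.Modules.pullback g).obj (Coh.structureModule Y) ≅ Coh.structureModule X :=
  haveI : IsIso (SheafOfModules.pullbackObjUnitToUnit g.toRingCatSheafHom) := inferInstance
  asIso (SheafOfModules.pullbackObjUnitToUnit g.toRingCatSheafHom)

/-- Twisting by the inverse image of an invertible module. -/
theorem isRelVeryAmple_tensor_pullback {L : X.Modules} (hL : PicF.IsInvertible L) {K : Y.Modules}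
    (hK : PicF.IsInvertible K) (h : RelProj.IsRelVeryAmple g L) :
    RelProj.IsRelVeryAmple g (CohB1.tensorMod L ((Scheme.Modules.pullback g).obj K)) :=
  isRelVeryAmple_tensor_of_gen hL (PicClLib.isInvertible_pullback g hK) h
    (ProjUPX.isQCoh_of_isInvertible hK) (𝟙 _)

theorem isRelVeryAmple_tensor_pullback_iff {L : X.Modules} (hL : PicF.IsInvertible L) {K : Y.Modules}
    (hK : PicF.IsInvertible K) :
    RelProj.IsRelVeryAmple g L ↔
      RelProj.IsRelVeryAmple g (CohB1.tensorMod L ((Scheme.Modules.pullback g).obj K)) := by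
  refine ⟨isRelVeryAmple_tensor_pullback hL hK, fun h => ?_⟩
  obtain ⟨K', hK', ⟨e⟩⟩ := H23.PicInv.exists_inverse hK
  obtain ⟨a⟩ := H23.PicMul.assoc L ((Scheme.Modules.pullback g).obj K) ((Scheme.Modules.pullback g).obj K')
  obtain ⟨b⟩ := H23.PicMul.pull g K K'
  obtain ⟨c⟩ := H23.PicMul.unit L
  exact isRelVeryAmple_of_iso
    (a ≪≫ PicGrp.tensorModIso (Iso.refl L) (b.symm ≪≫ (Scheme.Modules.pullback g).mapIso e ≪≫ pullUnit g) ≪≫ c)
    (isRelVeryAmple_tensor_pullback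
      (H23.PicMul.isInvertible_tensor hL (PicClLib.isInvertible_pullback g hK)) hK' h)

end Groth.Agent.EgaQ.VA
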