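import Groth.Agent.EgaQ.VA.BaseChange
import Groth.Agent.EgaQ.VA.Tensor

/-!
# External products of very ample modules
-/

universe u

open CategoryTheory CategoryTheory.Limits AlgebraicGeometry TopologicalSpace Opposite
open Groth.Agent.AModX

set_option backward.isDefEq.respectTransparency false
set_option backward.isDefEq.respectTransparency.types false
set_option linter.all false
set_option maxHeartbeats 1600000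

noncomputable section

namespace Groth.Agent.EgaQ.VA

open Groth.Agent.Eg2Sym Groth.Agent.Eg2Bundle

section bc

variable {X Y X' Y' : Scheme.{u}} {f : X ⟶ Y} {g : Y' ⟶ Y} {g' : X' ⟶ X} {f' : X' ⟶ Y'}
  {E : Y.Modules} {L : X.Modules} (hw : g' ≫ f = f' ≫ g)

/-- The pulled back sections. -/
def bcMap (σ : E ⟶ (Scheme.Modules.pushforward f).obj L) :
    (Scheme.Modules.pullback g).obj E ⟶ (Scheme.Modules.pushforward f').obj ((Scheme.Modules.pullback g').obj L) :=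
  midMap (bcPre hw σ)

lemma sec_bcMap (σ : E ⟶ (Scheme.Modules.pushforward f).obj L) {U : Y.Opens} {U' : Y'.Opens}
    (hU' : U' ≤ g ⁻¹ᵁ U) {V : X'.Opens} (h : V ≤ f' ⁻¹ᵁ U') {G : X.Opens} (hG : G ≤ f ⁻¹ᵁ U)
    (hV : V ≤ g' ⁻¹ᵁ G) (y : Γ(E, U)) :
    sec f' (bcMap hw σ) h (res _ hU' (InvX.pullElt g y)) =
      res _ hV (InvX.pullElt g' (sec f σ hG y)) := by
  rw [bcMap, sec_midMap,
    sec_bcPre hw σ _ ((h.trans (f'.preimage_mono hU')).trans (by rw [← Scheme.Hom.comp_preimage, ← hw]; rfl)) y,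
    sec, ← InvX.res_pullElt, res_res]

/-- The locus of a pulled back section. -/
lemma fLoc_bcMap (hL : PicF.IsInvertible L) (σ : E ⟶ (Scheme.Modules.pushforward f).obj L) {U : Y.Opens}
    {U' : Y'.Opens} (hU' : U' ≤ g ⁻¹ᵁ U) (e : Γ(E, U)) :
    fLoc (bcMap hw σ) (res _ hU' (InvX.pullElt g e)) = g' ⁻¹ᵁ fLoc σ e ⊓ f' ⁻¹ᵁ U' := by
  set G' := fLoc (bcMap hw σ) (res _ hU' (InvX.pullElt g e))
  have hG' : G' ≤ f' ⁻¹ᵁ U' := fLoc_le _ _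
  refine le_antisymm (le_inf (fun z hz => ?_) hG') (le_fLoc _ inf_le_right ?_)
  · have hV0 : G' ≤ g' ⁻¹ᵁ (f ⁻¹ᵁ U) := (hG'.trans (f'.preimage_mono hU')).trans (by
      rw [← Scheme.Hom.comp_preimage, ← hw]; rfl)
    have h1 := isFrame_fLoc (bcMap hw σ) (res _ hU' (InvX.pullElt g e))
    rw [sec_bcMap hw σ hU' _ (le_refl (f ⁻¹ᵁ U)) hV0] at h1
    obtain ⟨V, hV, hzV, hfr⟩ := frame_of_pullElt hL _ _ h1 z hz
    refine le_fLoc σ hV ?_ hzV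
    rw [← res_sec f σ (le_refl _) hV]
    exact hfr
  · rw [sec_bcMap hw σ hU' _ (fLoc_le σ e) inf_le_left]
    exact (InvX.isFrame_pullElt g' (isFrame_fLoc σ e)).res _

end bc

variable {S X₁ X₂ Y₁ Y₂ P Q : Scheme.{u}} {y₁ : Y₁ ⟶ S} {y₂ : Y₂ ⟶ S}
  {f₁ : X₁ ⟶ Y₁} {f₂ : X₂ ⟶ Y₂} {p₁ : P ⟶ X₁} {p₂ : P ⟶ X₂}
  {q₁ : Q ⟶ Y₁} {q₂ : Q ⟶ Y₂} {h : P ⟶ Q} {L₁ : X₁.Modules} {L₂ : X₂.Modules}
  {E₁ : Y₁.Modules} {E₂ : Y₂.Modules}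
  {σ₁ : E₁ ⟶ (Scheme.Modules.pushforward f₁).obj L₁} {σ₂ : E₂ ⟶ (Scheme.Modules.pushforward f₂).obj L₂}

theorem Emb.externalProd (hP : IsPullback p₁ p₂ (f₁ ≫ y₁) (f₂ ≫ y₂)) (hq : q₁ ≫ y₁ = q₂ ≫ y₂)
    (hh₁ : p₁ ≫ f₁ = h ≫ q₁) (hh₂ : p₂ ≫ f₂ = h ≫ q₂)
    (hL₁ : PicF.IsInvertible L₁) (hL₂ : PicF.IsInvertible L₂) (hσ₁ : Emb σ₁) (hσ₂ : Emb σ₂) :
    Emb (prodMap (bcMap hh₁ σ₁) (bcMap hh₂ σ₂)) := fun x => by
  obtain ⟨U₁, hU₁, e₁, hx₁, himm₁⟩ := hσ₁ (p₁ x)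
  obtain ⟨U₂, hU₂, e₂, hx₂, himm₂⟩ := hσ₂ (p₂ x)
  have hxU₁ : q₁ (h x) ∈ U₁ := by
    rw [← Scheme.Hom.comp_apply, ← hh₁, Scheme.Hom.comp_apply]; exact fLoc_le σ₁ e₁ hx₁
  have hxU₂ : q₂ (h x) ∈ U₂ := by
    rw [← Scheme.Hom.comp_apply, ← hh₂, Scheme.Hom.comp_apply]; exact fLoc_le σ₂ e₂ hx₂
  obtain ⟨U', hU', hxU', hle'⟩ := exists_isAffineOpen_mem_and_subset (U := q₁ ⁻¹ᵁ U₁ ⊓ q₂ ⁻¹ᵁ U₂) (x := h x)
    ⟨hxU₁, hxU₂⟩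
  have hU'₁ : U' ≤ q₁ ⁻¹ᵁ U₁ := fun z hz => (hle' hz).1
  have hU'₂ : U' ≤ q₂ ⁻¹ᵁ U₂ := fun z hz => (hle' hz).2
  let a₁ : Γ((Scheme.Modules.pullback q₁).obj E₁, U') := res _ hU'₁ (InvX.pullElt q₁ e₁)
  let a₂ : Γ((Scheme.Modules.pullback q₂).obj E₂, U') := res _ hU'₂ (InvX.pullElt q₂ e₂)
  set σ := prodMap (bcMap hh₁ σ₁) (bcMap hh₂ σ₂)
  let e : Γ(CohB1.tensorMod ((Scheme.Modules.pullback q₁).obj E₁) ((Scheme.Modules.pullback q₂).obj E₂), U') :=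
    InvX.tmul a₁ a₂
  set G₁ := fLoc σ₁ e₁
  set G₂ := fLoc σ₂ e₂
  set G := fLoc σ e with hGdef
  have hGU : G ≤ h ⁻¹ᵁ U' := fLoc_le _ _
  have hi₁ := PicClLib.isInvertible_pullback p₁ hL₁
  have hi₂ := PicClLib.isInvertible_pullback p₂ hL₂
  have hfr := isFrame_fLoc σ e
  rw [sec_prodMap] at hfr
  have hG₁ : G ≤ p₁ ⁻¹ᵁ G₁ := by
    have := le_fLoc (bcMap hh₁ σ₁) hGU (isFrame_left_of_tmul hi₁ hi₂ hfr)
    rw [fLoc_bcMap hh₁ hL₁] at this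
    exact this.trans inf_le_left
  have hG₂ : G ≤ p₂ ⁻¹ᵁ G₂ := by
    have := le_fLoc (bcMap hh₂ σ₂) hGU (isFrame_right_of_tmul hi₁ hi₂ hfr)
    rw [fLoc_bcMap hh₂ hL₂] at this
    exact this.trans inf_le_left
  have hsec₁ : ∀ y, sec h (bcMap hh₁ σ₁) hGU (res _ hU'₁ (InvX.pullElt q₁ y)) =
      res _ hG₁ (InvX.pullElt p₁ (sec f₁ σ₁ (fLoc_le σ₁ e₁) y)) := fun y => sec_bcMap hh₁ σ₁ hU'₁ _ _ hG₁ y
  have hsec₂ : ∀ y, sec h (bcMap hh₂ σ₂) hGU (res _ hU'₂ (InvX.pullElt q₂ y)) =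
      res _ hG₂ (InvX.pullElt p₂ (sec f₂ σ₂ (fLoc_le σ₂ e₂) y)) := fun y => sec_bcMap hh₂ σ₂ hU'₂ _ _ hG₂ y
  have hxG : x ∈ G := by
    refine le_fLoc σ (inf_le_right : (p₁ ⁻¹ᵁ G₁ ⊓ p₂ ⁻¹ᵁ G₂) ⊓ h ⁻¹ᵁ U' ≤ h ⁻¹ᵁ U') ?_ ⟨⟨hx₁, hx₂⟩, hxU'⟩
    rw [sec_prodMap, sec_bcMap hh₁ σ₁ hU'₁ _ (fLoc_le σ₁ e₁) (inf_le_left.trans inf_le_left),
      sec_bcMap hh₂ σ₂ hU'₂ _ (fLoc_le σ₂ e₂) (inf_le_left.trans inf_le_right)]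
    exact InvX.isFrame_tmul ((InvX.isFrame_pullElt p₁ (isFrame_fLoc σ₁ e₁)).res _)
      ((InvX.isFrame_pullElt p₂ (isFrame_fLoc σ₂ e₂)).res _)
  refine ⟨U', hU', e, hxG, ?_⟩
  let R₁ := coordRing σ₁ e₁
  let R₂ := coordRing σ₂ e₂
  let R := coordRing σ e
  let φ₁ : Γ(Y₁, U₁) ⟶ CommRingCat.of R₁ :=
    CommRingCat.ofHom ((f₁.appLE U₁ G₁ (fLoc_le σ₁ e₁)).hom.codRestrict R₁ (appLE_mem_coordRing σ₁ e₁))
  let φ₂ : Γ(Y₂, U₂) ⟶ CommRingCat.of R₂ :=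
    CommRingCat.ofHom ((f₂.appLE U₂ G₂ (fLoc_le σ₂ e₂)).hom.codRestrict R₂ (appLE_mem_coordRing σ₂ e₂))
  have hc : ∀ (r : Γ(Q, U')), (h.appLE U' G hGU).hom r ∈ R := appLE_mem_coordRing σ e
  have hθ₁ : ∀ a ∈ R₁, (p₁.appLE G₁ G hG₁).hom a ∈ R := by
    intro a ha
    induction ha using Subring.closure_induction with
    | mem a ha =>
      rcases ha with ⟨r, rfl⟩ | ⟨y, hy⟩
      · have := hc ((q₁.appLE U₁ U' hU'₁).hom r)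
        rw [← CommRingCat.comp_apply, Scheme.Hom.appLE_comp_appLE] at this ⊢
        simp only [hh₁] at this ⊢
        exact this
      · refine coord_mem_coordRing σ e (InvX.tmul (res _ hU'₁ (InvX.pullElt q₁ y)) a₂) _ ?_
        rw [sec_prodMap, sec_prodMap, hsec₁, hsec₁, hy, InvX.pullElt_smul, res_smul, InvX.tmul_smul_left]
        rfl
    | zero => rw [map_zero]; exact zero_mem _
    | one => rw [map_one]; exact one_mem _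
    | add a b _ _ ha hb => rw [map_add]; exact add_mem ha hb
    | neg a _ ha => rw [map_neg]; exact neg_mem ha
    | mul a b _ _ ha hb => rw [map_mul]; exact mul_mem ha hb
  have hθ₂ : ∀ a ∈ R₂, (p₂.appLE G₂ G hG₂).hom a ∈ R := by
    intro a ha
    induction ha using Subring.closure_induction with
    | mem a ha =>
      rcases ha with ⟨r, rfl⟩ | ⟨y, hy⟩
      · have := hc ((q₂.appLE U₂ U' hU'₂).hom r)
        rw [← CommRingCat.comp_apply, Scheme.Hom.appLE_comp_appLE] at this ⊢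
        simp only [hh₂] at this ⊢
        exact this
      · refine coord_mem_coordRing σ e (InvX.tmul a₁ (res _ hU'₂ (InvX.pullElt q₂ y))) _ ?_
        rw [sec_prodMap, sec_prodMap, hsec₂, hsec₂, hy, InvX.pullElt_smul, res_smul, InvX.tmul_smul_right]
        rfl
    | zero => rw [map_zero]; exact zero_mem _
    | one => rw [map_one]; exact one_mem _
    | add a b _ _ ha hb => rw [map_add]; exact add_mem ha hb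
    | neg a _ ha => rw [map_neg]; exact neg_mem ha
    | mul a b _ _ ha hb => rw [map_mul]; exact mul_mem ha hb
  let θ₁ : CommRingCat.of R₁ ⟶ CommRingCat.of R :=
    CommRingCat.ofHom (((p₁.appLE G₁ G hG₁).hom.comp R₁.subtype).codRestrict R fun a => hθ₁ a.1 a.2)
  let θ₂ : CommRingCat.of R₂ ⟶ CommRingCat.of R :=
    CommRingCat.ofHom (((p₂.appLE G₂ G hG₂).hom.comp R₂.subtype).codRestrict R fun a => hθ₂ a.1 a.2)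
  let θ : Γ(Q, U') ⟶ CommRingCat.of R :=
    CommRingCat.ofHom ((h.appLE U' G hGU).hom.codRestrict R hc)
  let b₁ : Spec (CommRingCat.of R₁) ⟶ S := Spec.map φ₁ ≫ hU₁.fromSpec ≫ y₁
  let b₂ : Spec (CommRingCat.of R₂) ⟶ S := Spec.map φ₂ ≫ hU₂.fromSpec ≫ y₂
  let γ₁ : G₁.toScheme ⟶ Spec (CommRingCat.of R₁) := coordMap σ₁ e₁
  let γ₂ : G₂.toScheme ⟶ Spec (CommRingCat.of R₂) := coordMap σ₂ e₂
  have hγ₁ : G₁.ι ≫ f₁ ≫ y₁ = γ₁ ≫ b₁ := by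
    show G₁.ι ≫ f₁ ≫ y₁ = (G₁.toSpecΓ ≫ Spec.map (CommRingCat.ofHom R₁.subtype)) ≫ Spec.map φ₁ ≫ hU₁.fromSpec ≫ y₁
    rw [Category.assoc, ← Spec.map_comp_assoc,
      show φ₁ ≫ CommRingCat.ofHom R₁.subtype = f₁.appLE U₁ G₁ (fLoc_le σ₁ e₁) from rfl,
      Scheme.Opens.toSpecΓ_SpecMap_appLE_assoc, hU₁.toSpecΓ_fromSpec_assoc, Scheme.Hom.resLE_comp_ι_assoc]
  have hγ₂ : G₂.ι ≫ f₂ ≫ y₂ = γ₂ ≫ b₂ := by
    show G₂.ι ≫ f₂ ≫ y₂ = (G₂.toSpecΓ ≫ Spec.map (CommRingCat.ofHom R₂.subtype)) ≫ Spec.map φ₂ ≫ hU₂.fromSpec ≫ y₂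
    rw [Category.assoc, ← Spec.map_comp_assoc,
      show φ₂ ≫ CommRingCat.ofHom R₂.subtype = f₂.appLE U₂ G₂ (fLoc_le σ₂ e₂) from rfl,
      Scheme.Opens.toSpecΓ_SpecMap_appLE_assoc, hU₂.toSpecΓ_fromSpec_assoc, Scheme.Hom.resLE_comp_ι_assoc]
  let ℓ₀ : G.toScheme ⟶ pullback (G₁.ι ≫ f₁ ≫ y₁) (G₂.ι ≫ f₂ ≫ y₂) :=
    pullback.lift (p₁.resLE G₁ G hG₁) (p₂.resLE G₂ G hG₂) (by
      rw [Scheme.Hom.resLE_comp_ι_assoc, Scheme.Hom.resLE_comp_ι_assoc, hP.w])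
  have hℓ₀ : IsOpenImmersion ℓ₀ := by
    let m₀ := pullback.map (G₁.ι ≫ f₁ ≫ y₁) (G₂.ι ≫ f₂ ≫ y₂) (f₁ ≫ y₁) (f₂ ≫ y₂) G₁.ι G₂.ι (𝟙 S) (by simp) (by simp)
    have e1 : ℓ₀ ≫ m₀ = G.ι ≫ hP.isoPullback.hom := by
      apply pullback.hom_ext <;> simp [ℓ₀, m₀, Scheme.Hom.resLE_comp_ι]
    have : IsOpenImmersion (ℓ₀ ≫ m₀) := by rw [e1]; infer_instance
    exact IsOpenImmersion.of_comp _ m₀
  let m := pullback.map (G₁.ι ≫ f₁ ≫ y₁) (G₂.ι ≫ f₂ ≫ y₂) b₁ b₂ γ₁ γ₂ (𝟙 S) (by simpa using hγ₁) (by simpa using hγ₂)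
  have hm : IsImmersion m :=
    MorphismProperty.pullbackMap (P := @IsImmersion.{u}) (i₁ := γ₁) (i₂ := γ₂) himm₁ himm₂ hγ₁ hγ₂
  have e₁' : φ₁ ≫ θ₁ = q₁.appLE U₁ U' hU'₁ ≫ θ := by
    refine CommRingCat.hom_ext (RingHom.ext fun r => Subtype.ext ?_)
    show (f₁.appLE U₁ G₁ (fLoc_le σ₁ e₁) ≫ p₁.appLE G₁ G hG₁).hom r = (q₁.appLE U₁ U' hU'₁ ≫ h.appLE U' G hGU).hom r
    rw [Scheme.Hom.appLE_comp_appLE, Scheme.Hom.appLE_comp_appLE]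
    simp only [hh₁]
  have e₂' : φ₂ ≫ θ₂ = q₂.appLE U₂ U' hU'₂ ≫ θ := by
    refine CommRingCat.hom_ext (RingHom.ext fun r => Subtype.ext ?_)
    show (f₂.appLE U₂ G₂ (fLoc_le σ₂ e₂) ≫ p₂.appLE G₂ G hG₂).hom r = (q₂.appLE U₂ U' hU'₂ ≫ h.appLE U' G hGU).hom r
    rw [Scheme.Hom.appLE_comp_appLE, Scheme.Hom.appLE_comp_appLE]
    simp only [hh₂]
  have hlift : Spec.map θ₁ ≫ b₁ = Spec.map θ₂ ≫ b₂ := by
    show Spec.map θ₁ ≫ Spec.map φ₁ ≫ hU₁.fromSpec ≫ y₁ = Spec.map θ₂ ≫ Spec.map φ₂ ≫ hU₂.fromSpec ≫ y₂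
    rw [← Spec.map_comp_assoc, ← Spec.map_comp_assoc, e₁', e₂', Spec.map_comp_assoc, Spec.map_comp_assoc,
      IsAffineOpen.SpecMap_appLE_fromSpec_assoc q₁ hU₁ hU', IsAffineOpen.SpecMap_appLE_fromSpec_assoc q₂ hU₂ hU', hq]
  let l := pullback.lift (Spec.map θ₁) (Spec.map θ₂) hlift
  let i : CommRingCat.of R ⟶ Γ(P, G) := CommRingCat.ofHom R.subtype
  have efin : coordMap σ e ≫ l = ℓ₀ ≫ m := by
    apply pullback.hom_ext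
    · show ((G.toSpecΓ ≫ Spec.map i) ≫ l) ≫ _ = _
      simp only [l, m, ℓ₀, Category.assoc, pullback.lift_fst, pullback.lift_fst_assoc]
      show G.toSpecΓ ≫ Spec.map i ≫ Spec.map θ₁ = p₁.resLE G₁ G hG₁ ≫ G₁.toSpecΓ ≫ Spec.map (CommRingCat.ofHom R₁.subtype)
      rw [← Spec.map_comp, ← Scheme.Opens.toSpecΓ_SpecMap_appLE_assoc, ← Spec.map_comp]
      rfl
    · show ((G.toSpecΓ ≫ Spec.map i) ≫ l) ≫ _ = _
      simp only [l, m, ℓ₀, Category.assoc, pullback.lift_snd, pullback.lift_snd_assoc]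
      show G.toSpecΓ ≫ Spec.map i ≫ Spec.map θ₂ = p₂.resLE G₂ G hG₂ ≫ G₂.toSpecΓ ≫ Spec.map (CommRingCat.ofHom R₂.subtype)
      rw [← Spec.map_comp, ← Scheme.Opens.toSpecΓ_SpecMap_appLE_assoc, ← Spec.map_comp]
      rfl
  have : IsImmersion (coordMap σ e ≫ l) := by rw [efin]; infer_instance
  exact IsImmersion.of_comp _ l

theorem isRelVeryAmple_externalProd (hP : IsPullback p₁ p₂ (f₁ ≫ y₁) (f₂ ≫ y₂)) (hq : q₁ ≫ y₁ = q₂ ≫ y₂)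
    (hh₁ : p₁ ≫ f₁ = h ≫ q₁) (hh₂ : p₂ ≫ f₂ = h ≫ q₂)
    (hL₁ : PicF.IsInvertible L₁) (hva₁ : RelProj.IsRelVeryAmple f₁ L₁)
    (hL₂ : PicF.IsInvertible L₂) (hva₂ : RelProj.IsRelVeryAmple f₂ L₂) :
    RelProj.IsRelVeryAmple h
      (CohB1.tensorMod ((Scheme.Modules.pullback p₁).obj L₁) ((Scheme.Modules.pullback p₂).obj L₂)) := by
  obtain ⟨E₁, hE₁, σ₁, hσ₁⟩ := exists_emb hva₁
  obtain ⟨E₂, hE₂, σ₂, hσ₂⟩ := exists_emb hva₂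
  exact (hσ₁.externalProd hP hq hh₁ hh₂ hL₁ hL₂ hσ₂).isRelVeryAmple
    (isQCoh_tensor' (QCoh.isQCoh_pullback q₁ hE₁) (QCoh.isQCoh_pullback q₂ hE₂))

end Groth.Agent.EgaQ.VA
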