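import Groth.Agent.EgaQ.VA.Emb
import Groth.Agent.QCoh.Qcqs

/-!
# Invertible modules on quasi-affine schemes are very ample
-/

universe u

open CategoryTheory CategoryTheory.Limits AlgebraicGeometry TopologicalSpace Opposite
open Groth.Agent.AModX

set_option backward.isDefEq.respectTransparency false
set_option backward.isDefEq.respectTransparency.types false
set_option linter.all false
set_option maxHeartbeats 800000

noncomputable section

namespace Groth.Agent.EgaQ.VA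

open Groth.Agent.Eg2Sym Groth.Agent.Eg2Bundle

theorem isRelVeryAmple_toSpecΓ (X : Scheme.{u}) [X.IsQuasiAffine] (L : X.Modules) (hL : PicF.IsInvertible L) :
    RelProj.IsRelVeryAmple X.toSpecΓ L := by
  have : QuasiCompact X.toSpecΓ := by
    rw [quasiCompact_iff_compactSpace]; infer_instance
  refine Emb.isRelVeryAmple (σ := 𝟙 ((Scheme.Modules.pushforward X.toSpecΓ).obj L))
    (QCoh.isQCoh_pushforward X.toSpecΓ (ProjUPX.isQCoh_of_isInvertible hL)) fun x => ?_
  obtain ⟨V₀, hxV₀, ℓ, hℓ⟩ := InvX.exists_frame hL x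
  obtain ⟨_, ⟨_, ⟨a, ha, rfl⟩, rfl⟩, hxa, haV⟩ :=
    (Scheme.IsQuasiAffine.isBasis_basicOpen X).exists_subset_of_mem_open hxV₀ V₀.2
  set D := X.basicOpen a
  have haV' : D ≤ V₀ := haV
  obtain ⟨n, t, ht⟩ := QCoh.exists_pow_smul_eq_map_of_isQuasiSeparated (ProjUPX.isQCoh_of_isInvertible hL)
    (W := ⊤) isCompact_univ isQuasiSeparated_univ a (res L haV' ℓ)
  set aD : Γ(X, D) := resR le_top a
  have haD : IsUnit aD := isUnit_resR le_top a le_rfl
  have ht' : res L le_top t = aD ^ n • res L haV' ℓ := ht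
  set s : Γ(L, (⊤ : X.Opens)) := a • t
  have hpre : X.toSpecΓ ⁻¹ᵁ (⊤ : (Spec Γ(X, ⊤)).Opens) = ⊤ := rfl
  let σ := 𝟙 ((Scheme.Modules.pushforward X.toSpecΓ).obj L)
  let e : Γ((Scheme.Modules.pushforward X.toSpecΓ).obj L, (⊤ : (Spec Γ(X, ⊤)).Opens)) := s
  have hsec : ∀ (V : X.Opens) (h : V ≤ X.toSpecΓ ⁻¹ᵁ (⊤ : (Spec Γ(X, ⊤)).Opens))
      (y : Γ(L, (⊤ : X.Opens))), sec X.toSpecΓ σ h y = res L (le_top : V ≤ ⊤) y := fun V h y => rfl
  have hD : InvX.IsFrame (res L (le_top : D ≤ ⊤) s) := by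
    rw [res_smul, ht', ← mul_smul]
    exact (hℓ.res haV').isUnit_smul (haD.mul (haD.pow n))
  have hG : fLoc σ e = D := by
    refine le_antisymm (fun z hz => ?_) (le_fLoc σ (hpre.ge.trans' le_top) (by rw [hsec]; exact hD))
    obtain ⟨W₀, hzW₀, m, hm⟩ := InvX.exists_frame hL z
    set W := fLoc σ e ⊓ W₀
    have hfr : InvX.IsFrame (res L (le_top : W ≤ ⊤) s) := by
      have h := (isFrame_fLoc σ e).res (inf_le_left : W ≤ fLoc σ e)
      rwa [res_sec, hsec] at h
    obtain ⟨τ, hτ⟩ := hm.exists_coord (inf_le_right : W ≤ W₀) (res L (le_top : W ≤ ⊤) t)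
    obtain ⟨c, hc⟩ := hfr.exists_coord le_rfl (res L (inf_le_right : W ≤ W₀) m)
    rw [res_self, res_smul, hτ, ← mul_smul, ← mul_smul] at hc
    have hu : IsUnit (resR (le_top : W ≤ ⊤) a) := IsUnit.of_mul_eq_one (c * τ)
      ((hm.res (inf_le_right : W ≤ W₀)).coord_unique le_rfl (by
        rw [res_self, one_smul]
        refine Eq.trans ?_ hc.symm
        congr 1
        ring))
    have hzW : z ∈ W := ⟨hz, hzW₀⟩
    have h2 : z ∈ X.basicOpen (resR (le_top : W ≤ ⊤) a) := (X.mem_basicOpen _ z hzW).2 (hu.map _)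
    rw [resR, Scheme.basicOpen_res] at h2
    exact h2.2
  refine ⟨⊤, isAffineOpen_top _, e, hG.ge hxa, ?_⟩
  set G := fLoc σ e
  have hGaff : IsAffineOpen G := by rw [hG]; exact ha
  have hconst : ∀ r : Γ(X, ⊤), resR (le_top : G ≤ ⊤) r ∈ coordRing σ e := fun r => by
    refine Subring.subset_closure (Or.inl ⟨(Scheme.ΓSpecIso Γ(X, ⊤)).inv r, ?_⟩)
    show (X.toSpecΓ.app ⊤ ≫ X.presheaf.map (homOfLE _).op).hom ((Scheme.ΓSpecIso Γ(X, ⊤)).inv r) = _
    rw [show X.toSpecΓ.app ⊤ = (Scheme.ΓSpecIso Γ(X, ⊤)).hom from X.toSpecΓ_appTop, CommRingCat.comp_apply]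
    exact congrArg (X.presheaf.map (homOfLE (le_top : G ≤ ⊤)).op).hom
      ((Scheme.ΓSpecIso Γ(X, ⊤)).inv_hom_id_apply r)
  have haG : IsUnit (resR (le_top : G ≤ ⊤) a) := isUnit_resR le_top a hG.le
  obtain ⟨b, hb⟩ := haG.exists_left_inv
  have hbmem : b ∈ coordRing σ e := by
    refine coord_mem_coordRing σ e (show Γ((Scheme.Modules.pushforward X.toSpecΓ).obj L, (⊤ : (Spec Γ(X, ⊤)).Opens)) from t) b ?_
    rw [hsec, hsec, res_smul, ← mul_smul, hb, one_smul]
  have hsurj : ∀ z : Γ(X, G), z ∈ coordRing σ e := by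
    have := isLocalization_basicOpen_of_qcqs (U := (⊤ : X.Opens)) isCompact_univ isQuasiSeparated_univ a
    intro z
    obtain ⟨⟨r, ⟨_, k, rfl⟩⟩, hk⟩ := IsLocalization.surj (Submonoid.powers a) (resR hG.ge z)
    have h1 : resR (le_top : D ≤ ⊤) (a ^ k) * resR hG.ge z = resR (le_top : D ≤ ⊤) r := by
      rw [mul_comm]; exact hk
    have h2 := congrArg (resR (V := D) hG.le) h1
    rw [map_mul, resR_resR, resR_resR, resR_resR, show resR _ z = z from resR_self z] at h2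
    have h3 : z = b ^ k * resR (le_top : G ≤ ⊤) r := by
      rw [← h2, map_pow, ← mul_assoc, ← mul_pow, hb, one_pow, one_mul]
    rw [h3]
    exact mul_mem (pow_mem hbmem k) (hconst r)
  rw [coordMap, ← hGaff.isoSpec_hom]
  have : IsClosedImmersion (Spec.map (CommRingCat.ofHom (coordRing σ e).subtype)) :=
    IsClosedImmersion.spec_of_surjective _ fun z => ⟨⟨z, hsurj z⟩, rfl⟩
  infer_instance

end Groth.Agent.EgaQ.VA
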